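import Mathlib.RingTheory.OrderOfVanishing.Noetherian
import Mathlib.RingTheory.OrderOfVanishing.Basic
import Mathlib.RingTheory.Ideal.AssociatedPrime.Finiteness
import Mathlib.RingTheory.Ideal.KrullsHeightTheorem
import Mathlib.LinearAlgebra.Matrix.ToLinearEquiv
import Mathlib.LinearAlgebra.Matrix.NonsingularInverse
import Mathlib.LinearAlgebra.Determinant
import Mathlib.RingTheory.Localization.Ideal
import Mathlib.RingTheory.HopkinsLevitzki
import Mathlib.Tactic

/-!
For an endomorphism of `Aⁿ` with non-zero-divisor determinant over a Noetherian ring,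
the length of the cokernel is the order of the determinant.
-/

namespace Groth.Surfaces.DetLength

open Matrix nonZeroDivisors

variable {A : Type*} [CommRing A] {n : ℕ}

/-- Length of the cokernel of a square matrix. -/
noncomputable def cokLen (M : Matrix (Fin n) (Fin n) A) : ℕ∞ :=
  Module.length A ((Fin n → A) ⧸ LinearMap.range M.mulVecLin)

lemma mulVec_injective {M : Matrix (Fin n) (Fin n) A} (h : M.det ∈ A⁰) :
    Function.Injective M.mulVecLin := by
  rw [injective_iff_map_eq_zero]
  intro v hv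
  have : M.det • v = 0 := by
    calc M.det • v = (M.adjugate * M) *ᵥ v := by
          rw [adjugate_mul, smul_mulVec, one_mulVec]
      _ = M.adjugate *ᵥ (M *ᵥ v) := (mulVec_mulVec _ _ _).symm
      _ = 0 := by rw [show M *ᵥ v = 0 from hv, mulVec_zero]
  ext i
  exact (mem_nonZeroDivisors_iff.1 h).1 _ (by simpa using congrFun this i)

lemma cokLen_mul {M N : Matrix (Fin n) (Fin n) A} (hM : Function.Injective M.mulVecLin) :
    cokLen (M * N) = cokLen N + cokLen M := by
  unfold cokLen
  have h1 : LinearMap.range N.mulVecLin ≤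
      (LinearMap.range (M * N).mulVecLin).comap M.mulVecLin := by
    rintro _ ⟨w, rfl⟩; exact ⟨w, by simp [mulVec_mulVec]⟩
  have h2 : LinearMap.range (M * N).mulVecLin ≤
      (LinearMap.range M.mulVecLin).comap LinearMap.id := by
    rintro _ ⟨w, rfl⟩; exact ⟨N *ᵥ w, by simp [mulVec_mulVec]⟩
  refine Module.length_eq_add_of_exact (Submodule.mapQ _ _ M.mulVecLin h1)
    (Submodule.mapQ _ _ LinearMap.id h2) ?_ ?_ ?_
  · rw [injective_iff_map_eq_zero]
    intro x hx
    obtain ⟨v, rfl⟩ := Submodule.Quotient.mk_surjective _ x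
    rw [Submodule.mapQ_apply, Submodule.Quotient.mk_eq_zero] at hx
    obtain ⟨w, hw⟩ := hx
    rw [Submodule.Quotient.mk_eq_zero]
    exact ⟨w, hM (by simpa [mulVec_mulVec] using hw)⟩
  · intro x
    obtain ⟨v, rfl⟩ := Submodule.Quotient.mk_surjective _ x
    exact ⟨Submodule.Quotient.mk v, rfl⟩
  · intro x
    obtain ⟨v, rfl⟩ := Submodule.Quotient.mk_surjective _ x
    constructor
    · intro hx
      rw [Submodule.mapQ_apply, Submodule.Quotient.mk_eq_zero] at hx
      obtain ⟨w, hw⟩ := hx
      exact ⟨Submodule.Quotient.mk w, by rw [Submodule.mapQ_apply, hw]; rfl⟩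
    · rintro ⟨y, hy⟩
      obtain ⟨w, rfl⟩ := Submodule.Quotient.mk_surjective _ y
      rw [← hy]
      simp only [Submodule.mapQ_apply, LinearMap.id_apply, Submodule.Quotient.mk_eq_zero]
      exact ⟨w, rfl⟩

lemma cokLen_unit {M : Matrix (Fin n) (Fin n) A} (h : IsUnit M.det) : cokLen M = 0 := by
  unfold cokLen
  rw [Module.length_eq_zero_iff]
  have : LinearMap.range M.mulVecLin = ⊤ := by
    refine eq_top_iff.2 fun v _ => ⟨M⁻¹ *ᵥ v, ?_⟩
    simp [mulVec_mulVec, mul_nonsing_inv _ h]
  rw [this]
  exact Submodule.Quotient.subsingleton_iff.2 rfl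

/-- Block triangular step. -/
lemma cokLen_succ (M : Matrix (Fin (n + 1)) (Fin (n + 1)) A) (h0 : M 0 0 ∈ A⁰)
    (hM : ∀ j : Fin n, M 0 j.succ = 0) :
    cokLen M = cokLen (M.submatrix Fin.succ Fin.succ) + Ring.ord A (M 0 0) := by
  have hmv : ∀ (w : Fin (n + 1) → A), (M *ᵥ w) 0 = M 0 0 * w 0 := fun w => by
    simp [mulVec, dotProduct, Fin.sum_univ_succ, hM]
  have hmv' : ∀ (w : Fin n → A), M *ᵥ (Fin.cons 0 w) =
      Fin.cons 0 ((M.submatrix Fin.succ Fin.succ) *ᵥ w) := by
    intro w
    ext i
    induction i using Fin.cases with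
    | zero => simp [hmv]
    | succ i => simp [mulVec, dotProduct, Fin.sum_univ_succ]
  let j : (Fin n → A) →ₗ[A] (Fin (n + 1) → A) :=
    { toFun := fun w => Fin.cons 0 w
      map_add' := fun u v => by ext i; induction i using Fin.cases <;> simp
      map_smul' := fun c v => by ext i; induction i using Fin.cases <;> simp }
  have h1 : LinearMap.range (M.submatrix Fin.succ Fin.succ).mulVecLin ≤
      (LinearMap.range M.mulVecLin).comap j := by
    rintro _ ⟨w, rfl⟩; exact ⟨Fin.cons 0 w, hmv' w⟩
  have h2 : LinearMap.range M.mulVecLin ≤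
      Submodule.comap (LinearMap.proj (0 : Fin (n + 1)) : (Fin (n + 1) → A) →ₗ[A] A)
        (Ideal.span {M 0 0}) := by
    rintro _ ⟨w, rfl⟩
    exact Ideal.mem_span_singleton'.2 ⟨w 0, by simp [hmv, mul_comm]⟩
  unfold cokLen Ring.ord
  refine Module.length_eq_add_of_exact (Submodule.mapQ _ _ j h1)
    (Submodule.mapQ _ _ (LinearMap.proj (0 : Fin (n + 1))) h2) ?_ ?_ ?_
  · rw [injective_iff_map_eq_zero]
    intro x hx
    obtain ⟨v, rfl⟩ := Submodule.Quotient.mk_surjective _ x
    rw [Submodule.mapQ_apply, Submodule.Quotient.mk_eq_zero] at hx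
    obtain ⟨w, hw⟩ := hx
    have hw0 : w 0 = 0 := by
      refine (mem_nonZeroDivisors_iff.1 h0).1 _ ?_
      have := congrFun hw 0
      simpa [hmv, j] using this
    have hwe : w = Fin.cons 0 (Fin.tail w) := by rw [← hw0, Fin.cons_self_tail]
    rw [Submodule.Quotient.mk_eq_zero]
    refine ⟨Fin.tail w, ?_⟩
    have : M *ᵥ w = Fin.cons 0 v := hw
    rw [hwe, hmv'] at this
    exact Fin.cons_right_injective (α := fun _ => A) 0 this
  · intro x
    obtain ⟨v, rfl⟩ := Submodule.Quotient.mk_surjective _ x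
    exact ⟨Submodule.Quotient.mk (fun _ => v), by rw [Submodule.mapQ_apply]; rfl⟩
  · intro x
    obtain ⟨v, rfl⟩ := Submodule.Quotient.mk_surjective _ x
    constructor
    · intro hx
      rw [Submodule.mapQ_apply, Submodule.Quotient.mk_eq_zero, LinearMap.proj_apply] at hx
      obtain ⟨c, hc⟩ := Ideal.mem_span_singleton'.1 hx
      refine ⟨Submodule.Quotient.mk (Fin.tail (v - M *ᵥ (Pi.single 0 c))), ?_⟩
      rw [Submodule.mapQ_apply, Submodule.Quotient.eq]
      refine ⟨-(Pi.single 0 c), ?_⟩
      ext i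
      induction i using Fin.cases with
      | zero => simp [j, hmv, ← hc, mul_comm]
      | succ i => simp [j, Fin.tail, mulVec_neg]
    · rintro ⟨y, hy⟩
      obtain ⟨w, rfl⟩ := Submodule.Quotient.mk_surjective _ y
      rw [← hy]
      simp [j, Submodule.Quotient.mk_eq_zero]

lemma cokLen_scalar (a : A) (ha : a ∈ A⁰) : ∀ (n : ℕ),
    cokLen (a • (1 : Matrix (Fin n) (Fin n) A)) = n * Ring.ord A a := by
  intro n
  induction n with
  | zero => rw [cokLen_unit (by simp)]; simp
  | succ n ih =>
    have hsub : (a • (1 : Matrix (Fin (n + 1)) (Fin (n + 1)) A)).submatrix Fin.succ Fin.succ =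
        a • 1 := by
      ext i k; simp [Matrix.one_apply]
    rw [cokLen_succ _ (by simpa using ha) (fun k => by
      simp [Matrix.one_apply, (Fin.succ_ne_zero k).symm]), hsub, ih]
    simp [add_mul]

lemma exists_add_notMem {B : Type*} [CommRing B] (s : Finset (Ideal B)) (hs : ∀ P ∈ s, P.IsPrime)
    (x : B) (J : Ideal B) (h : ∀ P ∈ s, ¬ Ideal.span {x} ⊔ J ≤ P) :
    ∃ y ∈ J, ∀ P ∈ s, x + y ∉ P := by
  classical
  induction s using Finset.strongInduction with
  | _ s ih =>
    rcases s.eq_empty_or_nonempty with rfl | hne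
    · exact ⟨0, J.zero_mem, by simp⟩
    obtain ⟨P, hP⟩ := s.exists_minimal hne
    obtain ⟨y, hy, hyP⟩ := ih (s.erase P) (Finset.erase_ssubset hP.1)
      (fun Q hQ => hs Q (Finset.mem_of_mem_erase hQ)) (fun Q hQ => h Q (Finset.mem_of_mem_erase hQ))
    by_cases hxy : x + y ∈ P
    · haveI := hs P hP.1
      have hJP : ¬ J ≤ P := fun hJ => h P hP.1 (sup_le
        ((Ideal.span_singleton_le_iff_mem _).2 (by simpa using P.sub_mem hxy (hJ hy))) hJ)
      have hprod : ¬ J * ∏ Q ∈ s.erase P, Q ≤ P := by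
        intro hle
        rcases Ideal.IsPrime.mul_le (hs P hP.1) |>.1 hle with h' | h'
        · exact hJP h'
        · obtain ⟨Q, hQ, hQP⟩ := (Ideal.IsPrime.prod_le (hs P hP.1)).1 h'
          exact (Finset.ne_of_mem_erase hQ)
            (le_antisymm hQP (hP.2 (Finset.mem_of_mem_erase hQ) hQP))
      obtain ⟨z, hz, hzP⟩ := SetLike.not_le_iff_exists.1 hprod
      refine ⟨y + z, J.add_mem hy (Ideal.mul_le_left hz), fun Q hQ hmem => ?_⟩
      by_cases hQP : Q = P
      · subst hQP
        exact hzP (by simpa [add_assoc] using Q.sub_mem hmem hxy)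
      · have hQ' := Finset.mem_erase.2 ⟨hQP, hQ⟩
        have hzQ : z ∈ Q := Ideal.le_of_dvd (Finset.dvd_prod_of_mem _ hQ') (Ideal.mul_le_right hz)
        exact hyP Q hQ' (by simpa [← add_assoc] using Q.sub_mem hmem hzQ)
    · refine ⟨y, hy, fun Q hQ => ?_⟩
      by_cases hQP : Q = P
      · subst hQP; exact hxy
      · exact hyP Q (Finset.mem_erase.2 ⟨hQP, hQ⟩)

lemma cokLen_eq_ord_det [IsNoetherianRing A] [Ring.KrullDimLE 1 A] :
    ∀ {n : ℕ} (M : Matrix (Fin n) (Fin n) A), M.det ∈ A⁰ → cokLen M = Ring.ord A M.det := by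
  intro n
  induction n with
  | zero => intro M _; rw [cokLen_unit (by simp), Matrix.det_fin_zero, Ring.ord_one]
  | succ n ih =>
    intro M hM
    classical
    have hfin := associatedPrimes.finite A A
    obtain ⟨y, hy, hyP⟩ := exists_add_notMem hfin.toFinset
      (fun P hP => (hfin.mem_toFinset.1 hP).isPrime) (M 0 0)
      (Ideal.span (Set.range fun j : Fin n => M 0 j.succ)) (by
        intro P hP hle
        have hdetP : M.det ∈ P := by
          rw [Matrix.det_succ_row_zero, Fin.sum_univ_succ]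
          refine P.add_mem (P.mul_mem_right _ (P.mul_mem_left _ (hle (Ideal.mem_sup_left
            (Ideal.mem_span_singleton_self _))))) (P.sum_mem fun j _ => P.mul_mem_right _
            (P.mul_mem_left _ (hle (Ideal.mem_sup_right (Ideal.subset_span ⟨j, rfl⟩)))))
        have : M.det ∈ ⋃ p ∈ associatedPrimes A A, (p : Set A) :=
          Set.mem_biUnion (hfin.mem_toFinset.1 hP) hdetP
        rw [biUnion_associatedPrimes_eq_compl_nonZeroDivisors] at this
        exact this hM)
    have hnzd : M 0 0 + y ∈ A⁰ := by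
      by_contra hc
      have : M 0 0 + y ∈ ⋃ p ∈ associatedPrimes A A, (p : Set A) := by
        rw [biUnion_associatedPrimes_eq_compl_nonZeroDivisors]; exact hc
      obtain ⟨P, hP, hmem⟩ := Set.mem_iUnion₂.1 this
      exact hyP P (hfin.mem_toFinset.2 hP) hmem
    obtain ⟨t, ht⟩ := (Submodule.mem_span_range_iff_exists_fun A).1 hy
    -- lower unitriangular column operation
    let E : Matrix (Fin (n + 1)) (Fin (n + 1)) A := Matrix.of fun i k =>
      if i = k then 1 else if k = 0 then (Fin.cons 0 t : Fin (n + 1) → A) i else 0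
    have hE : E.det = 1 := by
      rw [Matrix.det_of_lowerTriangular]
      · exact Finset.prod_eq_one fun i _ => by simp [E]
      · intro i k hik
        have h1 : i < k := hik
        simp [E, h1.ne, ((Fin.zero_le i).trans_lt h1).ne']
    have hM' : cokLen (M * E) = cokLen M := by
      rw [cokLen_mul (mulVec_injective hM), cokLen_unit (by rw [hE]; exact isUnit_one), zero_add]
    have ha : (M * E) 0 0 = M 0 0 + y := by
      simp [Matrix.mul_apply, Fin.sum_univ_succ, E, ← ht, mul_comm]
    have hdet' : (M * E).det = M.det := by rw [Matrix.det_mul, hE, mul_one]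
    rw [← hdet', ← hM']
    rw [← hdet'] at hM
    rw [← ha] at hnzd
    generalize M * E = P at hnzd hM ⊢
    -- clear the first row
    set a := P 0 0 with hadef
    let U : Matrix (Fin (n + 1)) (Fin (n + 1)) A := Matrix.of fun i k =>
      if i = k then 1 else if i = 0 then -P 0 k else 0
    let D : Matrix (Fin (n + 1)) (Fin (n + 1)) A :=
      Matrix.diagonal (Fin.cons 1 fun _ => a)
    have hU : U.det = 1 := by
      rw [Matrix.det_of_upperTriangular]
      · exact Finset.prod_eq_one fun i _ => by simp [U]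
      · intro i k hik
        have h1 : k < i := hik
        simp [U, h1.ne', ((Fin.zero_le k).trans_lt h1).ne']
    have hD : D.det = a ^ n := by simp [D, Matrix.det_diagonal, Fin.prod_univ_succ]
    have hDinj : Function.Injective D.mulVecLin :=
      mulVec_injective (by rw [hD]; exact pow_mem hnzd n)
    have hlD : cokLen D = n * Ring.ord A a := by
      rw [cokLen_succ D (by simp [D]) (fun k => by simp [D, (Fin.succ_ne_zero k).symm]),
        show D.submatrix Fin.succ Fin.succ = a • 1 by
          ext i k; simp [D, Matrix.diagonal_apply, Matrix.one_apply],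
        cokLen_scalar a hnzd n, show D 0 0 = 1 by simp [D], Ring.ord_one, add_zero]
    have hlDU : cokLen (D * U) = n * Ring.ord A a := by
      rw [cokLen_mul hDinj, cokLen_unit (by rw [hU]; exact isUnit_one), zero_add, hlD]
    set Q := P * (D * U) with hQ
    have hQ00 : Q 0 0 = a := by
      simp [hQ, D, U, Matrix.mul_apply, Matrix.diagonal_apply, Fin.sum_univ_succ, hadef]
    have hQ0 : ∀ k : Fin n, Q 0 k.succ = 0 := fun k => by
      simp [hQ, D, U, Matrix.mul_apply, Matrix.diagonal_apply, Fin.sum_univ_succ, hadef,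
        (Fin.succ_ne_zero k).symm, mul_comm]
    have hQdet : Q.det = P.det * a ^ n := by
      rw [hQ, Matrix.det_mul, Matrix.det_mul, hD, hU, mul_one]
    have hblock : Q.det = a * (Q.submatrix Fin.succ Fin.succ).det := by
      rw [Matrix.det_succ_row_zero, Fin.sum_univ_succ]
      simp [hQ00, hQ0]
    have hsubnzd : (Q.submatrix Fin.succ Fin.succ).det ∈ A⁰ := by
      have : a * (Q.submatrix Fin.succ Fin.succ).det ∈ A⁰ := by
        rw [← hblock, hQdet]; exact mul_mem hM (pow_mem hnzd n)
      exact (mul_mem_nonZeroDivisors.1 this).2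
    have h1 : cokLen Q = n * Ring.ord A a + cokLen P := by
      rw [hQ, cokLen_mul (mulVec_injective hM), hlDU]
    have h2 : cokLen Q = Ring.ord A (P.det) + n * Ring.ord A a := by
      rw [cokLen_succ Q (hQ00 ▸ hnzd) hQ0, ih _ hsubnzd, hQ00, ← Ring.ord_mul A hnzd, mul_comm,
        ← hblock, hQdet, Ring.ord_mul A (pow_mem hnzd n), Ring.ord_pow hnzd n, nsmul_eq_mul]
    rw [h1, add_comm (Ring.ord A P.det)] at h2
    refine ENat.add_left_injective_of_ne_top (n := (n : ℕ∞) * Ring.ord A a) ?_ ?_
    · exact WithTop.mul_ne_top (ENat.natCast_ne_top n) (Ring.ord_ne_top hnzd)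
    · show cokLen P + _ = Ring.ord A P.det + _
      rw [add_comm, h2, add_comm]

section General

variable [IsNoetherianRing A]

lemma cokLen_eq_ord_det_of_ne_top {n : ℕ} (M : Matrix (Fin n) (Fin n) A) (hM : M.det ∈ A⁰)
    (hfin : Ring.ord A M.det ≠ ⊤) : cokLen M = Ring.ord A M.det := by
  set d := M.det with hd
  set π := Ideal.Quotient.mk (Ideal.span {d})
  let S : Submonoid A := (IsUnit.submonoid (A ⧸ Ideal.span {d})).comap π.toMonoidHom
  let B := Localization S
  let ι := algebraMap A B
  have hπd : π d = 0 := Ideal.Quotient.eq_zero_iff_mem.2 (Ideal.mem_span_singleton_self d)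
  have hmemS : ∀ s : S, IsUnit (π (s : A)) := fun s => s.2
  -- `A/dA → B/dB` is bijective
  have hinj : ∀ x : A, ι x ∈ Ideal.span {ι d} → x ∈ Ideal.span {d} := by
    intro x hx
    obtain ⟨b, hb⟩ := Ideal.mem_span_singleton'.1 hx
    obtain ⟨⟨b0, s⟩, hbs⟩ := IsLocalization.surj S b
    have h1 : ι (x * s) = ι (b0 * d) := by
      rw [map_mul, map_mul, ← hbs, ← hb]; ring
    obtain ⟨s', hs'⟩ := (IsLocalization.eq_iff_exists S B).1 h1
    have h2 := congrArg π hs'
    simp only [map_mul, hπd, mul_zero] at h2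
    rw [← Ideal.Quotient.eq_zero_iff_mem]
    exact ((hmemS s).mul_left_eq_zero).1 (((hmemS s').mul_right_eq_zero).1 h2)
  have hsurj : ∀ b : B, ∃ x : A, b - ι x ∈ Ideal.span {ι d} := by
    intro b
    obtain ⟨⟨b0, s⟩, hbs⟩ := IsLocalization.surj S b
    obtain ⟨t, ht⟩ := (hmemS s).exists_left_inv
    obtain ⟨t, rfl⟩ := Ideal.Quotient.mk_surjective t
    have h1 : t * s - 1 ∈ Ideal.span {d} := by
      rw [← Ideal.Quotient.eq_zero_iff_mem, map_sub, map_mul, map_one, sub_eq_zero]; exact ht
    obtain ⟨r, hr⟩ := Ideal.mem_span_singleton'.1 h1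
    refine ⟨b0 * t, Ideal.mem_span_singleton'.2 ⟨-(b * ι r), ?_⟩⟩
    have h2 := congrArg ι hr
    simp only [map_mul, map_sub, map_one] at h2
    have h3 : b * ι (s : A) = ι b0 := hbs
    rw [map_mul]
    linear_combination (-b) * h2 - (ι t) * h3
  haveI hBnoeth : IsNoetherianRing B := IsLocalization.isNoetherianRing S B inferInstance
  have hBd : ι d ∈ B⁰ := IsLocalization.map_nonZeroDivisors_le S B ⟨d, hM, rfl⟩
  have halg : algebraMap A (B ⧸ Ideal.span {ι d}) = (Ideal.Quotient.mk _).comp ι := rfl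
  have hsurjQ : Function.Surjective (algebraMap A (B ⧸ Ideal.span {ι d})) := by
    intro q
    obtain ⟨b, rfl⟩ := Ideal.Quotient.mk_surjective q
    obtain ⟨x, hx⟩ := hsurj b
    exact ⟨x, (Ideal.Quotient.eq.2 hx).symm⟩
  have hker : RingHom.ker (algebraMap A (B ⧸ Ideal.span {ι d})) = Ideal.span {d} := by
    ext x
    rw [RingHom.mem_ker, halg, RingHom.comp_apply, Ideal.Quotient.eq_zero_iff_mem]
    refine ⟨hinj x, fun hx => ?_⟩
    obtain ⟨c, rfl⟩ := Ideal.mem_span_singleton'.1 hx
    exact Ideal.mem_span_singleton'.2 ⟨ι c, by rw [map_mul]⟩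
  let e : (A ⧸ Ideal.span {d}) ≃+* (B ⧸ Ideal.span {ι d}) :=
    (Ideal.quotEquivOfEq hker.symm).trans (RingHom.quotientKerEquivOfSurjective hsurjQ)
  haveI hAart : IsArtinianRing (A ⧸ Ideal.span {d}) := by
    rw [Ring.ord, Module.length_ne_top_iff, isFiniteLength_iff_isNoetherian_isArtinian] at hfin
    exact isArtinian_of_tower A hfin.2
  have hdim : ringKrullDim (B ⧸ Ideal.span {ι d}) ≤ 0 := by
    rw [← ringKrullDim_eq_of_ringEquiv e]
    exact Order.KrullDimLE.krullDim_le
  have hjac : ι d ∈ Ring.jacobson B := by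
    rw [Ring.jacobson_eq_sInf_isMaximal, Submodule.mem_sInf]
    intro P hP
    simp only [Set.mem_setOf_eq] at hP
    haveI := hP
    by_contra hdP
    obtain ⟨c, p, hp, hcp⟩ := hP.exists_inv hdP
    obtain ⟨⟨p0, s⟩, hps⟩ := IsLocalization.surj S p
    have h4 : ι p0 - ι (s : A) ∈ Ideal.span {ι d} := by
      rw [Ideal.mem_span_singleton']
      refine ⟨-(ι (s : A) * c), ?_⟩
      have h3 : p * ι (s : A) = ι p0 := hps
      linear_combination h3 - (ι (s : A)) * hcp
    have h5 := hinj (p0 - s) (by rwa [map_sub])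
    rw [← Ideal.Quotient.eq_zero_iff_mem, map_sub, sub_eq_zero] at h5
    have hp0 : p0 ∈ S := show IsUnit (π p0) from h5 ▸ hmemS s
    refine hP.ne_top (Ideal.eq_top_of_isUnit_mem P ?_ (IsLocalization.map_units B (⟨p0, hp0⟩ : S)))
    show ι p0 ∈ P
    have h3 : p * ι (s : A) = ι p0 := hps
    exact h3 ▸ Ideal.mul_mem_right _ _ hp
  haveI hBdim : Ring.KrullDimLE 1 B := by
    rw [Ring.KrullDimLE, Order.krullDimLE_iff]
    refine (ringKrullDim_le_ringKrullDim_quotient_add_encard {ι d}
      (Set.singleton_subset_iff.2 hjac)).trans ?_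
    refine (add_le_add hdim le_rfl).trans ?_
    simp
  let N : Matrix (Fin n) (Fin n) B := ι.mapMatrix M
  have hNdet : N.det = ι d := (ι.map_det M).symm
  have key := cokLen_eq_ord_det N (hNdet ▸ hBd)
  rw [hNdet] at key
  unfold cokLen at key ⊢
  have hordeq : Ring.ord A d = Ring.ord B (ι d) := by
    unfold Ring.ord
    rw [Module.length_eq_of_surjective (S := B) (R := B ⧸ Ideal.span {ι d})
        (M := B ⧸ Ideal.span {ι d}) Ideal.Quotient.mk_surjective,
      ← Module.length_eq_of_surjective (S := A) (R := B ⧸ Ideal.span {ι d})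
        (M := B ⧸ Ideal.span {ι d}) hsurjQ]
    refine LinearEquiv.length_eq
      { e with
        map_smul' := fun a x => ?_ }
    obtain ⟨x, rfl⟩ := Ideal.Quotient.mk_surjective x
    show e (a • Ideal.Quotient.mk _ x) = a • e (Ideal.Quotient.mk _ x)
    rw [Algebra.smul_def, map_mul]
    exact (Algebra.smul_def (A := B ⧸ Ideal.span {ι d}) a _).symm
  rw [hordeq, ← key]
  -- compare the two cokernels
  let f : (Fin n → A) →ₗ[A] (Fin n → B) := (Algebra.linearMap A B).compLeft (Fin n)
  have hf : ∀ w : Fin n → A, N *ᵥ (f w) = f (M *ᵥ w) := by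
    intro w
    funext i
    simp [f, N, ι, Matrix.mulVec, dotProduct, map_sum]
  let K : Submodule A (Fin n → B) := (LinearMap.range N.mulVecLin).restrictScalars A
  have hfK : LinearMap.range M.mulVecLin ≤ K.comap f := by
    rintro _ ⟨w, rfl⟩; exact ⟨f w, hf w⟩
  have hdK : ∀ u : Fin n → B, ι d • u ∈ K := by
    intro u
    refine ⟨N.adjugate *ᵥ u, ?_⟩
    show N *ᵥ (N.adjugate *ᵥ u) = ι d • u
    rw [mulVec_mulVec, mul_adjugate, hNdet, smul_mulVec, one_mulVec]
  have hdec : ∀ v : Fin n → B, ∃ (w : Fin n → A) (u : Fin n → B), v = f w + ι d • u := by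
    intro v
    choose x hx using fun i => hsurj (v i)
    choose c hc using fun i => Ideal.mem_span_singleton'.1 (hx i)
    refine ⟨x, c, funext fun i => ?_⟩
    simp [f, ι, Algebra.smul_def] at hc ⊢
    linear_combination -(hc i)
  let g := Submodule.mapQ (LinearMap.range M.mulVecLin) K f hfK
  have hgsurj : Function.Surjective g := by
    intro x
    obtain ⟨v, rfl⟩ := Submodule.Quotient.mk_surjective _ x
    obtain ⟨w, u, rfl⟩ := hdec v
    refine ⟨Submodule.Quotient.mk w, ?_⟩
    rw [Submodule.mapQ_apply, Submodule.Quotient.eq]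
    have : f w - (f w + ι d • u) = -(ι d • u) := by abel
    rw [this]
    exact K.neg_mem (hdK u)
  have hginj : Function.Injective g := by
    rw [injective_iff_map_eq_zero]
    intro x hx
    obtain ⟨v, rfl⟩ := Submodule.Quotient.mk_surjective _ x
    rw [Submodule.mapQ_apply, Submodule.Quotient.mk_eq_zero] at hx
    obtain ⟨w, hw⟩ := hx
    have hw' : N *ᵥ w = f v := hw
    obtain ⟨w0, u, rfl⟩ := hdec w
    rw [mulVec_add, hf, mulVec_smul] at hw'
    choose c hc using fun i => Ideal.mem_span_singleton'.1 (hinj ((v - M *ᵥ w0) i) (by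
      refine Ideal.mem_span_singleton'.2 ⟨(N *ᵥ u) i, ?_⟩
      have := congrFun hw' i
      simp [f, ι, Algebra.smul_def] at this ⊢
      linear_combination this))
    rw [Submodule.Quotient.mk_eq_zero]
    refine ⟨w0 + M.adjugate *ᵥ c, ?_⟩
    show M *ᵥ _ = v
    rw [mulVec_add, mulVec_mulVec, mul_adjugate, ← hd, smul_mulVec, one_mulVec]
    funext i
    have := hc i
    simp at this ⊢
    linear_combination this
  rw [(LinearEquiv.ofBijective g ⟨hginj, hgsurj⟩).length_eq]
  let Q := (Fin n → B) ⧸ LinearMap.range N.mulVecLin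
  have hkill : Ideal.span {ι d} ≤ Module.annihilator B Q := by
    rw [Ideal.span_singleton_le_iff_mem, Module.mem_annihilator]
    intro x
    obtain ⟨v, rfl⟩ := Submodule.Quotient.mk_surjective _ x
    rw [← Submodule.Quotient.mk_smul, Submodule.Quotient.mk_eq_zero]
    exact hdK v
  letI : Module (B ⧸ Ideal.span {ι d}) Q :=
    (Module.IsTorsionBySet.module (fun x a => Module.mem_annihilator.1 (hkill a.2) x))
  haveI : IsScalarTower B (B ⧸ Ideal.span {ι d}) Q :=
    Module.IsTorsionBySet.isScalarTower (fun x a => Module.mem_annihilator.1 (hkill a.2) x)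
  haveI : IsScalarTower A (B ⧸ Ideal.span {ι d}) Q :=
    ⟨fun a b x => by
      obtain ⟨b, rfl⟩ := Ideal.Quotient.mk_surjective b
      show (Ideal.Quotient.mk (Ideal.span {ι d}) (a • b)) • x = a • (Ideal.Quotient.mk (Ideal.span {ι d}) b • x)
      show (a • b) • x = a • (b • x)
      exact smul_assoc a b x⟩
  have e1 : ((Fin n → B) ⧸ K) ≃ₗ[A] Q := Submodule.Quotient.restrictScalarsEquiv A _
  rw [e1.length_eq]
  exact (Module.length_eq_of_surjective (S := A) (R := B ⧸ Ideal.span {ι d}) (M := Q) hsurjQ).trans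
    (Module.length_eq_of_surjective (S := B) (R := B ⧸ Ideal.span {ι d}) (M := Q)
      Ideal.Quotient.mk_surjective).symm

lemma ord_ne_top_of_cokLen_ne_top {n : ℕ} (M : Matrix (Fin n) (Fin n) A)
    (h : cokLen M ≠ ⊤) : Ring.ord A M.det ≠ ⊤ := by
  classical
  let Q := (Fin n → A) ⧸ LinearMap.range M.mulVecLin
  have hQ : IsFiniteLength A Q := Module.length_ne_top_iff.1 h
  haveI := (isFiniteLength_iff_isNoetherian_isArtinian.1 hQ).2
  haveI := (isFiniteLength_iff_isNoetherian_isArtinian.1 hQ).1
  let v : Fin n → Q := fun i => Submodule.Quotient.mk (Pi.single i 1)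
  let φ : A →ₗ[A] (Fin n → Q) := LinearMap.pi fun i => LinearMap.toSpanSingleton A Q (v i)
  have hker : ∀ x ∈ LinearMap.ker φ, x ^ n ∈ Ideal.span {M.det} := by
    intro x hx
    have hx' : ∀ i, ∃ w, M *ᵥ w = x • (Pi.single i 1 : Fin n → A) := by
      intro i
      have := congrFun (show φ x = 0 from hx) i
      simp only [φ, v, LinearMap.pi_apply, LinearMap.toSpanSingleton_apply, Pi.zero_apply] at this
      exact (Submodule.Quotient.mk_eq_zero _).1 ((Submodule.Quotient.mk_smul _ x (Pi.single i 1)).trans this)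
    choose w hw using hx'
    have hMW : M * (Matrix.of fun i k => w k i) = x • (1 : Matrix (Fin n) (Fin n) A) := by
      ext i k
      have := congrFun (hw k) i
      simpa [Matrix.mul_apply, Matrix.mulVec, dotProduct, Matrix.one_apply, Pi.single_apply] using this
    have := congrArg Matrix.det hMW
    rw [Matrix.det_mul, Matrix.det_smul, Matrix.det_one, mul_one, Fintype.card_fin] at this
    exact Ideal.mem_span_singleton'.2 ⟨_, (mul_comm _ _).trans this⟩
  haveI : IsArtinian A (A ⧸ LinearMap.ker φ) :=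
    isArtinian_of_linearEquiv (φ.quotKerEquivRange).symm
  haveI : IsArtinianRing (A ⧸ (LinearMap.ker φ : Ideal A)) := isArtinian_of_tower A this
  have hart : IsArtinianRing (A ⧸ Ideal.span {M.det}) := by
    rw [isArtinianRing_iff_krullDimLE_zero, Ring.krullDimLE_zero_iff]
    intro P hP
    have hle : (LinearMap.ker φ : Ideal A) ≤ P.comap (Ideal.Quotient.mk _) := fun x hx => by
      have : Ideal.Quotient.mk (Ideal.span {M.det}) (x ^ n) = 0 :=
        Ideal.Quotient.eq_zero_iff_mem.2 (hker x hx)
      rw [map_pow] at this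
      exact hP.mem_of_pow_mem n (this ▸ P.zero_mem)
    have hmax : (P.comap (Ideal.Quotient.mk (Ideal.span {M.det}))).IsMaximal := by
      haveI := Ideal.comap_isPrime (Ideal.Quotient.mk (Ideal.span {M.det})) P
      let q := (P.comap (Ideal.Quotient.mk (Ideal.span {M.det}))).map
        (Ideal.Quotient.mk (LinearMap.ker φ : Ideal A))
      haveI : q.IsPrime := Ideal.map_isPrime_of_surjective Ideal.Quotient.mk_surjective
        (by simpa [Ideal.mk_ker] using hle)
      haveI : q.IsMaximal := IsArtinianRing.isMaximal_of_isPrime q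
      have hq : q.comap (Ideal.Quotient.mk (LinearMap.ker φ : Ideal A)) =
          P.comap (Ideal.Quotient.mk (Ideal.span {M.det})) := by
        rw [Ideal.comap_map_of_surjective _ Ideal.Quotient.mk_surjective, sup_eq_left,
          ← RingHom.ker_eq_comap_bot, Ideal.mk_ker]
        exact hle
      rw [← hq]
      exact Ideal.comap_isMaximal_of_surjective _ Ideal.Quotient.mk_surjective
    have := Ideal.map_eq_top_or_isMaximal_of_surjective (Ideal.Quotient.mk (Ideal.span {M.det}))
      Ideal.Quotient.mk_surjective hmax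
    rw [Ideal.map_comap_of_surjective _ Ideal.Quotient.mk_surjective] at this
    exact this.resolve_left hP.ne_top
  rw [Ring.ord, Module.length_ne_top_iff, isFiniteLength_iff_isNoetherian_isArtinian]
  exact ⟨inferInstance, isArtinian_of_surjective_algebraMap
    (Ideal.Quotient.mk_surjective (I := Ideal.span {M.det}))⟩

theorem cokLen_eq_ord {n : ℕ} (M : Matrix (Fin n) (Fin n) A) (hM : M.det ∈ A⁰) :
    cokLen M = Ring.ord A M.det := by
  by_cases h : Ring.ord A M.det = ⊤
  · rw [h]
    by_contra hne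
    exact ord_ne_top_of_cokLen_ne_top M hne h
  · exact cokLen_eq_ord_det_of_ne_top M hM h

/-- For an endomorphism of a finite free module with non-zero-divisor determinant. -/
theorem length_coker_eq_ord {P : Type*} [AddCommGroup P] [Module A P] {n : ℕ}
    (b : Module.Basis (Fin n) A P) (φ : P →ₗ[A] P) (hφ : LinearMap.det φ ∈ A⁰) :
    Module.length A (P ⧸ LinearMap.range φ) = Ring.ord A (LinearMap.det φ) := by
  have hdet : LinearMap.det φ = (LinearMap.toMatrix b b φ).det := (LinearMap.det_toMatrix b φ).symm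
  rw [hdet, ← cokLen_eq_ord _ (hdet ▸ hφ)]
  refine (Submodule.Quotient.equiv _ _ b.equivFun ?_).length_eq
  ext v
  simp only [Submodule.mem_map, LinearMap.mem_range]
  constructor
  · rintro ⟨_, ⟨x, rfl⟩, rfl⟩
    exact ⟨b.equivFun x, by simp [LinearMap.toMatrix_mulVec_repr b b φ x]⟩
  · rintro ⟨w, rfl⟩
    refine ⟨_, ⟨b.equivFun.symm w, rfl⟩, ?_⟩
    have h := LinearMap.toMatrix_mulVec_repr b b φ (b.equivFun.symm w)
    have hw : ⇑(b.repr (b.equivFun.symm w)) = w := b.equivFun.apply_symm_apply w
    rw [hw] at h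
    exact h.symm

end General

end Groth.Surfaces.DetLength
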