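import Groth.Prelude.Def_Tame
import Groth.Agent.Surfaces.DetLength
import Mathlib.Algebra.Module.Lattice
import Mathlib.LinearAlgebra.FiniteDimensional.Basic

/-!
Distances of lattices over a one-dimensional Noetherian domain.
-/

namespace Groth.Surfaces.Lattice

open nonZeroDivisors

variable {A : Type*} [CommRing A] [IsDomain A] [IsNoetherianRing A] [Ring.KrullDimLE 1 A]
variable {K : Type*} [Field K] [Algebra A K] [IsFractionRing A K]

lemma ordFrac_mul {x y : K} (hx : x ≠ 0) (hy : y ≠ 0) :
    CycAlg.ordFrac A K (x * y) = CycAlg.ordFrac A K x + CycAlg.ordFrac A K y := by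
  unfold CycAlg.ordFrac
  rw [dif_pos ⟨inferInstance, inferInstance, inferInstance, inferInstance⟩,
    dif_pos ⟨inferInstance, inferInstance, inferInstance, inferInstance⟩,
    dif_pos ⟨inferInstance, inferInstance, inferInstance, inferInstance⟩, map_mul]
  have hx' : Ring.ordFrac A x ≠ 0 := (map_ne_zero _).2 hx
  have hy' : Ring.ordFrac A y ≠ 0 := (map_ne_zero _).2 hy
  obtain ⟨a, ha⟩ := WithZero.ne_zero_iff_exists.1 hx'
  obtain ⟨b, hb⟩ := WithZero.ne_zero_iff_exists.1 hy'
  rw [← ha, ← hb, ← WithZero.coe_mul]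
  rfl

lemma ordFrac_algebraMap {a : A} (ha : a ≠ 0) :
    CycAlg.ordFrac A K (algebraMap A K a) = ((Ring.ord A a).toNat : ℤ) := by
  unfold CycAlg.ordFrac
  rw [dif_pos ⟨inferInstance, inferInstance, inferInstance, inferInstance⟩,
    Ring.ordFrac_eq_ord A ha]
  obtain ⟨m, hm⟩ := ENat.ne_top_iff_exists.1 (Ring.ord_ne_top (mem_nonZeroDivisors_of_ne_zero ha))
  rw [Ring.ordMonoidWithZeroHom_eq_coe A (mem_nonZeroDivisors_of_ne_zero ha) hm.symm, ← hm]
  rfl

variable {V : Type*} [AddCommGroup V] [Module A V]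

/-- `length M/(M ⊓ N)`. -/
noncomputable def rellen (M N : Submodule A V) : ℕ∞ :=
  Module.length A (↥M ⧸ N.submoduleOf M)

/-- The lattice distance. -/
noncomputable def dist (M N : Submodule A V) : ℤ :=
  ((rellen M (M ⊓ N)).toNat : ℤ) - ((rellen N (M ⊓ N)).toNat : ℤ)

omit [IsDomain A] [IsNoetherianRing A] [Ring.KrullDimLE 1 A] in
lemma rellen_add {M N P : Submodule A V} (hPN : P ≤ N) (hNM : N ≤ M) :
    rellen M P = rellen N P + rellen M N := by
  unfold rellen
  have h1 : P.submoduleOf N ≤ (P.submoduleOf M).comap (Submodule.inclusion hNM) := fun x hx => hx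
  have h2 : P.submoduleOf M ≤ (N.submoduleOf M).comap LinearMap.id := fun x hx => hPN hx
  refine Module.length_eq_add_of_exact (Submodule.mapQ _ _ (Submodule.inclusion hNM) h1)
    (Submodule.mapQ _ _ LinearMap.id h2) ?_ ?_ ?_
  · rw [injective_iff_map_eq_zero]
    intro x hx
    obtain ⟨v, rfl⟩ := Submodule.Quotient.mk_surjective _ x
    rw [Submodule.mapQ_apply, Submodule.Quotient.mk_eq_zero] at hx
    exact (Submodule.Quotient.mk_eq_zero _).2 hx
  · intro x
    obtain ⟨v, rfl⟩ := Submodule.Quotient.mk_surjective _ x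
    exact ⟨Submodule.Quotient.mk v, rfl⟩
  · intro x
    obtain ⟨v, rfl⟩ := Submodule.Quotient.mk_surjective _ x
    constructor
    · intro hx
      rw [Submodule.mapQ_apply, Submodule.Quotient.mk_eq_zero] at hx
      exact ⟨Submodule.Quotient.mk ⟨(v : V), hx⟩, rfl⟩
    · rintro ⟨y, hy⟩
      obtain ⟨w, rfl⟩ := Submodule.Quotient.mk_surjective _ y
      rw [← hy]
      simp only [Submodule.mapQ_apply, LinearMap.id_apply, Submodule.Quotient.mk_eq_zero]
      exact w.2

lemma rellen_ne_top_of_smul_le {M N : Submodule A V} (hM : M.FG) {s : A} (hs : s ≠ 0)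
    (h : ∀ x ∈ M, s • x ∈ N) : rellen M N ≠ ⊤ := by
  haveI : Module.Finite A M := Module.Finite.iff_fg.2 hM
  let Q := ↥M ⧸ N.submoduleOf M
  have hkill : ∀ (x : Q) (a : (Ideal.span {s} : Ideal A)), (a : A) • x = 0 := by
    intro x a
    obtain ⟨v, rfl⟩ := Submodule.Quotient.mk_surjective _ x
    obtain ⟨c, hc⟩ := Ideal.mem_span_singleton'.1 a.2
    rw [← Submodule.Quotient.mk_smul, Submodule.Quotient.mk_eq_zero, ← hc, mul_smul]
    exact (N.submoduleOf M).smul_mem c (h v v.2)
  letI : Module (A ⧸ Ideal.span {s}) Q := Module.IsTorsionBySet.module (fun x a => hkill x a)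
  haveI : IsScalarTower A (A ⧸ Ideal.span {s}) Q :=
    Module.IsTorsionBySet.isScalarTower (fun x a => hkill x a)
  haveI : Module.Finite (A ⧸ Ideal.span {s}) Q := Module.Finite.of_restrictScalars_finite A _ _
  have hart : IsArtinianRing (A ⧸ Ideal.span {s}) := isArtinian_of_tower A
    (isFiniteLength_iff_isNoetherian_isArtinian.1
      (isFiniteLength_quotient_span_singleton A (mem_nonZeroDivisors_of_ne_zero hs))).2
  unfold rellen
  rw [Module.length_eq_of_surjective (S := A) (R := A ⧸ Ideal.span {s}) (M := Q)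
    Ideal.Quotient.mk_surjective]
  exact Module.length_ne_top

omit [IsDomain A] [IsNoetherianRing A] [Ring.KrullDimLE 1 A] in
lemma dist_eq {M N P : Submodule A V} (hP : P ≤ M ⊓ N) (hM : rellen M P ≠ ⊤)
    (hN : rellen N P ≠ ⊤) :
    dist M N = ((rellen M P).toNat : ℤ) - ((rellen N P).toNat : ℤ) := by
  have e1 := rellen_add hP (inf_le_left : M ⊓ N ≤ M)
  have e2 := rellen_add hP (inf_le_right : M ⊓ N ≤ N)
  have hI : rellen (M ⊓ N) P ≠ ⊤ := fun h => hM (by rw [e1, h, top_add])
  have hMI : rellen M (M ⊓ N) ≠ ⊤ := fun h => hM (by rw [e1, h, add_top])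
  have hNI : rellen N (M ⊓ N) ≠ ⊤ := fun h => hN (by rw [e2, h, add_top])
  rw [dist, e1, e2, ENat.toNat_add hI hMI, ENat.toNat_add hI hNI]
  push_cast; ring

variable [Module K V] [IsScalarTower A K V]

variable (K) in
omit [IsDomain A] [IsNoetherianRing A] [Ring.KrullDimLE 1 A] in
lemma exists_smul_mem [Nontrivial A] {N : Submodule A V} (hN : Submodule.span K (N : Set V) = ⊤)
    (x : V) : ∃ s : A, s ≠ 0 ∧ s • x ∈ N := by
  haveI : IsDomain A := (IsFractionRing.injective A K).isDomain
  have hx : x ∈ Submodule.span K (N : Set V) := hN ▸ Submodule.mem_top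
  induction hx using Submodule.span_induction with
  | mem y hy => exact ⟨1, one_ne_zero, by simpa using hy⟩
  | zero => exact ⟨1, one_ne_zero, by simp⟩
  | add y z _ _ hy hz =>
    obtain ⟨s, hs, hys⟩ := hy
    obtain ⟨t, ht, hzt⟩ := hz
    refine ⟨s * t, mul_ne_zero hs ht, ?_⟩
    rw [smul_add]
    refine N.add_mem ?_ ?_
    · rw [mul_comm, mul_smul]; exact N.smul_mem t hys
    · rw [mul_smul]; exact N.smul_mem s hzt
  | smul k y _ hy =>
    obtain ⟨s, hs, hys⟩ := hy
    obtain ⟨⟨a, b⟩, hab⟩ := IsLocalization.surj A⁰ k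
    refine ⟨b * s, mul_ne_zero (nonZeroDivisors.coe_ne_zero b) hs, ?_⟩
    have : ((b : A) * s) • (k • y) = a • (s • y) := by
      rw [← algebraMap_smul K ((b : A) * s), ← algebraMap_smul K a, ← algebraMap_smul K s y,
        smul_smul, smul_smul, map_mul]
      congr 1
      rw [mul_comm (algebraMap A K (b : A)), mul_assoc, mul_comm (algebraMap A K (b : A)), hab]
      ring
    rw [this]
    exact N.smul_mem a hys

variable (K) in
omit [IsNoetherianRing A] [Ring.KrullDimLE 1 A] in
lemma exists_smul_le {M N : Submodule A V} (hM : M.FG) (hN : Submodule.span K (N : Set V) = ⊤) :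
    ∃ s : A, s ≠ 0 ∧ ∀ x ∈ M, s • x ∈ N := by
  classical
  obtain ⟨g, rfl⟩ := hM
  choose s hs hsx using exists_smul_mem (A := A) K hN
  refine ⟨∏ x ∈ g, s x, Finset.prod_ne_zero_iff.2 fun x _ => hs x, fun x hx => ?_⟩
  induction hx using Submodule.span_induction with
  | mem y hy =>
    rw [← Finset.mul_prod_erase g s hy, mul_comm, mul_smul]
    exact N.smul_mem _ (hsx y)
  | zero => simp
  | add y z _ _ hy hz => rw [smul_add]; exact N.add_mem hy hz
  | smul c y _ hy => rw [smul_comm]; exact N.smul_mem c hy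

variable (K) in
lemma rellen_ne_top (M N : Submodule A V) [Submodule.IsLattice K M] [Submodule.IsLattice K N] :
    rellen M (M ⊓ N) ≠ ⊤ := by
  obtain ⟨s, hs, h⟩ := exists_smul_le (A := A) K (Submodule.IsLattice.fg (M := M))
    (Submodule.IsLattice.span_eq_top (M := N))
  exact rellen_ne_top_of_smul_le Submodule.IsLattice.fg hs fun x hx =>
    ⟨M.smul_mem s hx, h x hx⟩

variable (K) in
theorem dist_add (M₁ M₂ M₃ : Submodule A V) [Submodule.IsLattice K M₁] [Submodule.IsLattice K M₂]
    [Submodule.IsLattice K M₃] : dist M₁ M₃ = dist M₁ M₂ + dist M₂ M₃ := by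
  have key : ∀ (M : Submodule A V) [Submodule.IsLattice K M], rellen M (M₁ ⊓ M₂ ⊓ M₃) ⊓ ⊤ ≠ ⊤ := by
    intro M _
    rw [inf_top_eq]
    obtain ⟨a, ha, ha'⟩ := exists_smul_le (A := A) K (Submodule.IsLattice.fg (M := M))
      (Submodule.IsLattice.span_eq_top (M := M₁))
    obtain ⟨b, hb, hb'⟩ := exists_smul_le (A := A) K (Submodule.IsLattice.fg (M := M))
      (Submodule.IsLattice.span_eq_top (M := M₂))
    obtain ⟨c, hc, hc'⟩ := exists_smul_le (A := A) K (Submodule.IsLattice.fg (M := M))
      (Submodule.IsLattice.span_eq_top (M := M₃))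
    refine rellen_ne_top_of_smul_le Submodule.IsLattice.fg (mul_ne_zero (mul_ne_zero ha hb) hc)
      fun x hx => ⟨⟨?_, ?_⟩, ?_⟩
    · rw [mul_assoc, mul_comm, mul_smul]; exact M₁.smul_mem _ (ha' x hx)
    · rw [mul_right_comm, mul_smul]; exact M₂.smul_mem _ (hb' x hx)
    · rw [mul_smul]; exact M₃.smul_mem _ (hc' x hx)
  have k1 := key M₁
  have k2 := key M₂
  have k3 := key M₃
  rw [inf_top_eq] at k1 k2 k3
  rw [dist_eq (le_inf (inf_le_left.trans inf_le_left) inf_le_right) k1 k3,
    dist_eq inf_le_left k1 k2,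
    dist_eq (le_inf (inf_le_left.trans inf_le_right) inf_le_right) k2 k3]
  ring

omit [IsDomain A] [IsNoetherianRing A] [Ring.KrullDimLE 1 A] [IsFractionRing A K]
  [IsScalarTower A K V] in
lemma rellen_map (φ : V ≃ₗ[A] V) (M N : Submodule A V) :
    rellen (M.map φ.toLinearMap) (N.map φ.toLinearMap) = rellen M N := by
  unfold rellen
  refine (Submodule.Quotient.equiv _ _ (φ.submoduleMap M) ?_).length_eq.symm
  ext y
  simp only [Submodule.mem_map, Submodule.submoduleOf, Submodule.mem_comap]
  constructor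
  · rintro ⟨x, hx, rfl⟩; exact ⟨x, hx, rfl⟩
  · rintro ⟨x, hx, hxy⟩
    obtain ⟨z, hz, hzy⟩ := y.2
    have : x = z := φ.injective (hxy.trans hzy.symm)
    subst this
    exact ⟨⟨x, hz⟩, hx, Subtype.ext hzy⟩

omit [IsDomain A] [IsNoetherianRing A] [Ring.KrullDimLE 1 A] [IsFractionRing A K]
  [IsScalarTower A K V] in
lemma dist_map (φ : V ≃ₗ[A] V) (M N : Submodule A V) :
    dist (M.map φ.toLinearMap) (N.map φ.toLinearMap) = dist M N := by
  unfold dist
  rw [← Submodule.map_inf _ φ.injective, rellen_map, rellen_map]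

omit [IsDomain A] [IsNoetherianRing A] [Ring.KrullDimLE 1 A] [IsFractionRing A K] in
lemma isLattice_map (φ : V ≃ₗ[K] V) (M : Submodule A V) [Submodule.IsLattice K M] :
    Submodule.IsLattice K (M.map (φ.toLinearMap.restrictScalars A)) where
  fg := Submodule.FG.map _ Submodule.IsLattice.fg
  span_eq_top := by
    rw [Submodule.map_coe]
    show Submodule.span K (φ.toLinearMap '' (M : Set V)) = ⊤
    rw [← Submodule.map_span, Submodule.IsLattice.span_eq_top, Submodule.map_top]
    exact LinearEquiv.range _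

variable [FiniteDimensional K V]

theorem dist_map_eq (M : Submodule A V) [Submodule.IsLattice K M] (φ : V ≃ₗ[K] V) :
    dist M (M.map (φ.toLinearMap.restrictScalars A)) =
      CycAlg.ordFrac A K (LinearMap.det φ.toLinearMap) := by
  classical
  let n := Module.finrank K V
  let b := Module.finBasis K V
  let F : Submodule A V := Submodule.span A (Set.range b)
  haveI hF : Submodule.IsLattice K F :=
    ⟨Submodule.fg_span (Set.finite_range b), by
      rw [eq_top_iff, ← b.span_eq]
      exact Submodule.span_mono Submodule.subset_span⟩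
  obtain ⟨s, hs, hsF⟩ := exists_smul_le (A := A) K (M := F.map (φ.toLinearMap.restrictScalars A))
    (Submodule.FG.map _ (Submodule.IsLattice.fg (M := F))) (Submodule.IsLattice.span_eq_top (M := F))
  have hsK : algebraMap A K s ≠ 0 :=
    (map_ne_zero_iff _ (IsFractionRing.injective A K)).2 hs
  let σ : V ≃ₗ[K] V := LinearEquiv.smulOfUnit (Units.mk0 _ hsK)
  have hσ : ∀ v, σ v = s • v := fun v => algebraMap_smul K s v
  -- basis of `F` over `A`
  have hli : LinearIndependent A b := b.linearIndependent.restrict_scalars' A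
  let bF : Module.Basis (Fin n) A F := Module.Basis.span hli
  have hψF : ∀ x : F, s • φ (x : V) ∈ F := fun x => hsF _ ⟨x, x.2, rfl⟩
  let ψ : F →ₗ[A] F :=
    { toFun := fun x => ⟨s • φ (x : V), hψF x⟩
      map_add' := fun x y => Subtype.ext (by simp)
      map_smul' := fun a x => Subtype.ext (by
        show s • φ (a • (x : V)) = a • (s • φ (x : V))
        rw [← algebraMap_smul K a (x : V), map_smul, algebraMap_smul, smul_comm]) }
  have hbF : ∀ i, ((bF i : F) : V) = b i := fun i => Module.Basis.coe_span_apply hli i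
  have hmat : (LinearMap.toMatrix bF bF ψ).map (algebraMap A K) =
      LinearMap.toMatrix b b ((algebraMap A K s) • φ.toLinearMap) := by
    ext i j
    rw [Matrix.map_apply, LinearMap.toMatrix_apply, LinearMap.toMatrix_apply]
    have h1 : ((algebraMap A K s) • φ.toLinearMap) (b j) = ((ψ (bF j) : F) : V) := by
      show algebraMap A K s • φ (b j) = s • φ _
      rw [hbF, algebraMap_smul]
    rw [h1]
    conv_rhs => rw [← bF.sum_repr (ψ (bF j))]
    simp only [Submodule.coe_sum, Submodule.coe_smul_of_tower, hbF, ← algebraMap_smul K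
      (bF.repr (ψ (bF j)) _) (b _), map_sum, map_smul]
    simp [Module.Basis.repr_self, Finsupp.single_apply, Algebra.algebraMap_eq_smul_one]
  have hdetψ : algebraMap A K (LinearMap.det ψ) =
      (algebraMap A K s) ^ n * LinearMap.det φ.toLinearMap := by
    rw [← LinearMap.det_toMatrix bF, RingHom.map_det, RingHom.mapMatrix_apply, hmat,
      LinearMap.det_toMatrix, LinearMap.det_smul]
  have hdφ : LinearMap.det φ.toLinearMap ≠ 0 := (LinearEquiv.isUnit_det' φ).ne_zero
  have hψ0 : LinearMap.det ψ ≠ 0 := fun h => by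
    rw [h, map_zero] at hdetψ
    exact mul_ne_zero (pow_ne_zero _ hsK) hdφ hdetψ.symm
  have hlenψ := DetLength.length_coker_eq_ord bF ψ (mem_nonZeroDivisors_of_ne_zero hψ0)
  let φ' : V ≃ₗ[A] V := φ.restrictScalars A
  let σ' : V ≃ₗ[A] V := σ.restrictScalars A
  haveI hφF := isLattice_map φ F
  haveI hφM := isLattice_map φ M
  haveI hσφF := isLattice_map σ (F.map (φ.toLinearMap.restrictScalars A))
  have hle : (F.map (φ.toLinearMap.restrictScalars A)).map (σ.toLinearMap.restrictScalars A) ≤ F := by
    rintro _ ⟨y, hy, rfl⟩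
    show σ y ∈ F
    rw [hσ]; exact hsF y hy
  have hR : LinearMap.range ψ =
      ((F.map (φ.toLinearMap.restrictScalars A)).map (σ.toLinearMap.restrictScalars A)).submoduleOf F := by
    ext x
    simp only [LinearMap.mem_range, Submodule.submoduleOf, Submodule.mem_comap, Submodule.subtype_apply]
    constructor
    · rintro ⟨z, rfl⟩
      exact ⟨_, ⟨z, z.2, rfl⟩, hσ _⟩
    · rintro ⟨_, ⟨z, hz, rfl⟩, hzx⟩
      refine ⟨⟨z, hz⟩, Subtype.ext ?_⟩
      show s • φ z = x
      rw [← hσ]; exact hzx
  have d1 : dist F ((F.map (φ.toLinearMap.restrictScalars A)).map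
      (σ.toLinearMap.restrictScalars A)) = ((Ring.ord A (LinearMap.det ψ)).toNat : ℤ) := by
    rw [dist, inf_eq_right.2 hle]
    have h0 : rellen ((F.map (φ.toLinearMap.restrictScalars A)).map (σ.toLinearMap.restrictScalars A))
        ((F.map (φ.toLinearMap.restrictScalars A)).map (σ.toLinearMap.restrictScalars A)) = 0 := by
      unfold rellen
      rw [Module.length_eq_zero_iff]
      exact Submodule.Quotient.subsingleton_iff.2 (by ext x; simpa [Submodule.submoduleOf] using x.2)
    rw [h0, ← hlenψ, hR]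
    simp [rellen]
  -- scaling by `s`
  have d2 : dist ((F.map (φ.toLinearMap.restrictScalars A)).map (σ.toLinearMap.restrictScalars A))
      (F.map (φ.toLinearMap.restrictScalars A)) = -((n : ℤ) * (Ring.ord A s).toNat) := by
    set G := F.map (φ.toLinearMap.restrictScalars A) with hG
    have hle' : G.map (σ.toLinearMap.restrictScalars A) ≤ G := by
      rintro _ ⟨y, hy, rfl⟩
      show σ y ∈ G
      rw [hσ]; exact G.smul_mem s hy
    rw [dist, inf_eq_left.2 hle']
    have h0 : rellen (G.map (σ.toLinearMap.restrictScalars A))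
        (G.map (σ.toLinearMap.restrictScalars A)) = 0 := by
      unfold rellen
      rw [Module.length_eq_zero_iff]
      exact Submodule.Quotient.subsingleton_iff.2 (by ext x; simpa [Submodule.submoduleOf] using x.2)
    have hlen : rellen G (G.map (σ.toLinearMap.restrictScalars A)) = n * Ring.ord A s := by
      have e1 : (G.map (σ.toLinearMap.restrictScalars A)) =
          (F.map (σ.toLinearMap.restrictScalars A)).map (φ.toLinearMap.restrictScalars A) := by
        rw [hG, ← Submodule.map_comp, ← Submodule.map_comp]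
        congr 1
        ext v
        show σ (φ v) = φ (σ v)
        rw [hσ, hσ, ← algebraMap_smul K s v, map_smul, algebraMap_smul]
      rw [e1, hG]
      show rellen (F.map φ'.toLinearMap) ((F.map _).map φ'.toLinearMap) = _
      rw [rellen_map]
      haveI : Module.Free A F := Module.Free.of_basis bF
      have hdet : LinearMap.det (s • (LinearMap.id : F →ₗ[A] F)) = s ^ n := by
        rw [LinearMap.det_smul, LinearMap.det_id, mul_one, Module.finrank_eq_card_basis bF,
          Fintype.card_fin]
      have := DetLength.length_coker_eq_ord bF (s • LinearMap.id)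
        (by rw [hdet]; exact pow_mem (mem_nonZeroDivisors_of_ne_zero hs) n)
      rw [hdet, Ring.ord_pow (mem_nonZeroDivisors_of_ne_zero hs), nsmul_eq_mul] at this
      rw [← this]
      refine (Submodule.quotEquivOfEq _ _ ?_).length_eq
      ext x
      simp only [Submodule.submoduleOf, Submodule.mem_comap, Submodule.subtype_apply,
        LinearMap.mem_range]
      constructor
      · rintro ⟨z, hz, hzx⟩
        exact ⟨⟨z, hz⟩, Subtype.ext ((hσ z).symm.trans hzx)⟩
      · rintro ⟨z, rfl⟩
        exact ⟨z, z.2, hσ z⟩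
    rw [h0, hlen]
    simp [ENat.toNat_mul]
  have step : dist M (M.map (φ.toLinearMap.restrictScalars A)) =
      dist F (F.map (φ.toLinearMap.restrictScalars A)) := by
    rw [dist_add K M F (M.map (φ.toLinearMap.restrictScalars A)),
      dist_add K F (F.map (φ.toLinearMap.restrictScalars A)) (M.map (φ.toLinearMap.restrictScalars A))]
    have e := dist_map φ' F M
    have e' : dist M F + dist F M = 0 := by unfold dist; rw [inf_comm M F]; ring
    have e'' : dist (F.map (φ.toLinearMap.restrictScalars A))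
        (M.map (φ.toLinearMap.restrictScalars A)) = dist F M := e
    rw [e'']
    linarith
  rw [step, dist_add K F ((F.map (φ.toLinearMap.restrictScalars A)).map
    (σ.toLinearMap.restrictScalars A)) (F.map (φ.toLinearMap.restrictScalars A)), d1, d2,
    ← ordFrac_algebraMap (K := K) hψ0, hdetψ, ordFrac_mul (pow_ne_zero _ hsK) hdφ, ← map_pow,
    ordFrac_algebraMap (K := K) (pow_ne_zero n hs), Ring.ord_pow (mem_nonZeroDivisors_of_ne_zero hs)]
  simp [nsmul_eq_mul, ENat.toNat_mul]

end Groth.Surfaces.Lattice
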