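import Groth.Agent.Ega4Algebra1.RegularLocal
import Mathlib.RingTheory.UniqueFactorizationDomain.Kaplansky
import Mathlib.RingTheory.UniqueFactorizationDomain.GCDMonoid
import Mathlib.RingTheory.OrderOfVanishing.Basic
import Mathlib.Tactic

/-!
A two-dimensional regular local ring is factorial.
-/

universe u

namespace Groth.Surfaces.RegularTwo

open IsLocalRing Groth.Ega4Algebra1

variable {A : Type u} [CommRing A] [IsRegularLocalRing A]

lemma spanFinrank_eq_two (hA : ringKrullDim A = 2) : (maximalIdeal A).spanFinrank = 2 := by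
  have := IsRegularLocalRing.spanFinrank_maximalIdeal (R := A)
  rw [hA] at this
  exact_mod_cast this

/-- A prime ideal other than the maximal ideal is principal. -/
theorem isPrincipal_of_ne_maximalIdeal (hA : ringKrullDim A = 2) (P : Ideal A) [hP : P.IsPrime]
    (hPm : P ≠ maximalIdeal A) : P.IsPrincipal := by
  haveI := isDomain_of_isRegularLocalRing A
  have hfr := spanFinrank_eq_two hA
  have hbot : maximalIdeal A ≠ ⊥ := fun h => by rw [h, Submodule.spanFinrank_bot] at hfr; omega
  have hnle : ¬ maximalIdeal A ≤ P := fun h =>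
    hPm (le_antisymm (le_maximalIdeal hP.ne_top) h)
  obtain ⟨x, hx, hx2, hxP⟩ := exists_mem_notMem_notMem (maximalIdeal_not_le_sq hbot)
    (S := {P}) (Set.finite_singleton P) (fun Q hQ => by rw [Set.mem_singleton_iff.1 hQ]; exact hP)
    (fun Q hQ => by rw [Set.mem_singleton_iff.1 hQ]; exact hnle)
  have hxP' := hxP P rfl
  have hx0 : x ≠ 0 := fun h => hxP' (h ▸ P.zero_mem)
  have hxR := isSMulRegular_of_ne_zero_of_isRegularLocalRing A hx0
  have hxM : IsSMulRegular (A ⧸ P) x := by
    intro a b hab
    obtain ⟨a, rfl⟩ := Ideal.Quotient.mk_surjective a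
    obtain ⟨b, rfl⟩ := Ideal.Quotient.mk_surjective b
    have h : x * a - x * b ∈ P := (Ideal.Quotient.eq).1 hab
    rw [← mul_sub] at h
    exact Ideal.Quotient.eq.2 ((hP.mem_or_mem h).resolve_left hxP')
  obtain ⟨hq, -⟩ := isRegularLocalRing_quotient_span_singleton hx hx2
  have h1 := spanFinrank_maximalIdeal_quotient_lt hx hx2
  have h2 := spanFinrank_maximalIdeal_le_quotient_add_one (R := A) hx
  have hpd : PdLT A (A ⧸ P) 2 := by
    refine PdLT.of_quotient_of_isSMulRegular x hx hxR hxM 1 ?_
    have : Module.Finite (A ⧸ Ideal.span {x})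
        ((A ⧸ P) ⧸ (Ideal.span {x} • ⊤ : Submodule A (A ⧸ P))) :=
      Module.Finite.of_restrictScalars_finite A _ _
    exact pdLT_of_isRegularLocalRing _ 1 (by omega) _
  have hproj : Module.Projective A (LinearMap.ker (Submodule.mkQ P)) :=
    PdLT.one_iff.1 ((PdLT.ker_iff (Submodule.mkQ P) (Submodule.mkQ_surjective P) 0).1 hpd)
  rw [Submodule.ker_mkQ] at hproj
  haveI := hproj
  haveI : Module.Free A P := Module.free_of_flat_of_isLocalRing
  let b := Module.Free.chooseBasis A P
  have hsub : Subsingleton (Module.Free.ChooseBasisIndex A P) := by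
    refine ⟨fun i j => ?_⟩
    by_contra hij
    have h3 : ((b j : P) : A) • b i = ((b i : P) : A) • b j := Subtype.ext (mul_comm _ _)
    have h4 := congrArg (fun z => b.repr z i) h3
    simp [Finsupp.single_apply, Ne.symm hij] at h4
    exact b.ne_zero j h4
  by_cases hne : Nonempty (Module.Free.ChooseBasisIndex A P)
  · obtain ⟨i⟩ := hne
    refine ⟨⟨((b i : P) : A), le_antisymm (fun y hy => ?_) ?_⟩⟩
    · rw [Submodule.mem_span_singleton]
      refine ⟨b.repr ⟨y, hy⟩ i, ?_⟩
      have h5 := b.sum_repr ⟨y, hy⟩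
      rw [Fintype.sum_subsingleton _ i] at h5
      exact congrArg Subtype.val h5
    · rw [Submodule.span_singleton_le_iff_mem]
      exact (b i).2
  · refine ⟨⟨0, ?_⟩⟩
    rw [Submodule.span_zero_singleton, eq_bot_iff]
    intro y hy
    rw [Submodule.mem_bot]
    haveI := not_nonempty_iff.1 hne
    have h5 := b.sum_repr ⟨y, hy⟩
    rw [Fintype.sum_empty] at h5
    exact (congrArg Subtype.val h5).symm

theorem ufd (hA : ringKrullDim A = 2) : UniqueFactorizationMonoid A := by
  haveI := isDomain_of_isRegularLocalRing A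
  rw [UniqueFactorizationMonoid.iff_exists_prime_mem_of_isPrime]
  intro I hI hIp
  by_cases hIm : I = maximalIdeal A
  · subst hIm
    have hfr := spanFinrank_eq_two hA
    obtain ⟨x, hx, hx2, -⟩ := exists_mem_notMem_notMem (maximalIdeal_not_le_sq hI)
      (S := ∅) Set.finite_empty (fun _ h => h.elim) (fun _ h => h.elim)
    have hx0 : x ≠ 0 := fun h => hx2 (h ▸ zero_mem _)
    obtain ⟨hq, -⟩ := isRegularLocalRing_quotient_span_singleton hx hx2
    haveI := isDomain_of_isRegularLocalRing (A ⧸ Ideal.span {x})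
    exact ⟨x, hx, (Ideal.span_singleton_prime hx0).1
      ((Ideal.Quotient.isDomain_iff_prime _).1 inferInstance)⟩
  · obtain ⟨⟨p, hp⟩⟩ := isPrincipal_of_ne_maximalIdeal hA I hIm
    have hp0 : p ≠ 0 := fun h => hI (by rw [hp, h, Submodule.span_zero_singleton])
    refine ⟨p, hp ▸ Submodule.mem_span_singleton_self p, (Ideal.span_singleton_prime hp0).1 ?_⟩
    rw [hp] at hIp
    exact hIp

/-- Additivity of `length A/(f, g)` in `f`. -/
theorem length_mul_add [IsDomain A] [UniqueFactorizationMonoid A] {f g h : A} (hhg : IsRelPrime h g) :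
    Module.length A (A ⧸ Ideal.span ({f * h, g} : Set A)) =
      Module.length A (A ⧸ Ideal.span ({f, g} : Set A)) +
        Module.length A (A ⧸ Ideal.span ({h, g} : Set A)) := by
  have h1 : Ideal.span ({f, g} : Set A) ≤
      Submodule.comap (LinearMap.mulLeft A h) (Ideal.span ({f * h, g} : Set A)) := by
    intro x hx
    obtain ⟨a, b, rfl⟩ := Ideal.mem_span_pair.1 hx
    exact Ideal.mem_span_pair.2 ⟨a, b * h, by show _ = h * _; ring⟩
  have h2 : Ideal.span ({f * h, g} : Set A) ≤
      Submodule.comap LinearMap.id (Ideal.span ({h, g} : Set A)) := by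
    intro x hx
    obtain ⟨a, b, rfl⟩ := Ideal.mem_span_pair.1 hx
    exact Ideal.mem_span_pair.2 ⟨a * f, b, by show _ = _; simp; ring⟩
  refine Module.length_eq_add_of_exact (Submodule.mapQ _ _ (LinearMap.mulLeft A h) h1)
    (Submodule.mapQ _ _ LinearMap.id h2) ?_ ?_ ?_
  · rw [injective_iff_map_eq_zero]
    intro x hx
    obtain ⟨v, rfl⟩ := Submodule.Quotient.mk_surjective _ x
    rw [Submodule.mapQ_apply, Submodule.Quotient.mk_eq_zero] at hx
    obtain ⟨a, b, hab⟩ := Ideal.mem_span_pair.1 hx
    rw [Submodule.Quotient.mk_eq_zero, Ideal.mem_span_pair]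
    have hab' : a * (f * h) + b * g = h * v := hab
    by_cases hg : g = 0
    · subst hg
      have hu : IsUnit h := hhg dvd_rfl (dvd_zero h)
      exact ⟨a, 0, hu.mul_left_cancel (by linear_combination hab')⟩
    · have hdvd : g ∣ h * (v - a * f) := ⟨b, by linear_combination -hab'⟩
      obtain ⟨c, hc⟩ := (hhg.symm).dvd_of_dvd_mul_left hdvd
      exact ⟨a, c, by linear_combination -hc⟩
  · intro x
    obtain ⟨v, rfl⟩ := Submodule.Quotient.mk_surjective _ x
    exact ⟨Submodule.Quotient.mk v, rfl⟩
  · intro x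
    obtain ⟨v, rfl⟩ := Submodule.Quotient.mk_surjective _ x
    constructor
    · intro hx
      rw [Submodule.mapQ_apply, Submodule.Quotient.mk_eq_zero] at hx
      obtain ⟨a, b, hab⟩ := Ideal.mem_span_pair.1 hx
      refine ⟨Submodule.Quotient.mk a, ?_⟩
      rw [Submodule.mapQ_apply, Submodule.Quotient.eq]
      refine Ideal.mem_span_pair.2 ⟨0, -b, ?_⟩
      have hab' : a * h + b * g = v := hab
      show _ = h * a - v
      linear_combination -hab'
    · rintro ⟨y, hy⟩
      obtain ⟨w, rfl⟩ := Submodule.Quotient.mk_surjective _ y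
      rw [← hy]
      simp only [Submodule.mapQ_apply, LinearMap.id_apply, Submodule.Quotient.mk_eq_zero]
      exact Ideal.mem_span_pair.2 ⟨w, 0, by show _ = h * w; ring⟩

end Groth.Surfaces.RegularTwo
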