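import Mathlib.RingTheory.PowerSeries.Exp
import Mathlib.RingTheory.PowerSeries.Derivative
import Mathlib.RingTheory.PowerSeries.Inverse
import Mathlib.RingTheory.Binomial
import Mathlib.Algebra.Ring.GeomSum
import Mathlib.Tactic

/-!
The Todd series `f = t / (1 - e^{-t})` in `ℚ⟦t⟧`, characterised by `f * (e^t - 1) = t * e^t`.
-/

namespace Groth.Surfaces.Todd

open PowerSeries

noncomputable abbrev E : PowerSeries ℚ := exp ℚ
noncomputable abbrev F : PowerSeries ℚ := evalNegHom (exp ℚ)

lemma E_sub_one_ne_zero : E - 1 ≠ 0 := by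
  intro h
  have := congrArg (coeff 1) h
  simp [E, coeff_exp] at this

variable {f : PowerSeries ℚ}

lemma euler_identity (hf : f * (E - 1) = X * E) :
    X * derivative ℚ f = f - F * f ^ 2 := by
  have h1 := congrArg (derivative ℚ) hf
  simp only [Derivation.leibniz, map_sub, Derivation.map_one_eq_zero, sub_zero, derivative_X,
    derivative_exp, E, smul_eq_mul, mul_one] at h1
  have hEF : E * F = 1 := exp_mul_exp_neg_eq_one
  apply mul_right_cancel₀ E_sub_one_ne_zero
  simp only [E] at *
  linear_combination X * h1 - (1 + X - F * f) * hf + (X * f) * hEF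

lemma coeff_exp_neg_mul_pow (hf : f * (E - 1) = X * E) (n : ℕ) :
    coeff (n + 1) (F * f ^ (n + 2)) = 0 := by
  have h := derivative_pow f (n + 1)
  have h2 : X * derivative ℚ (f ^ (n + 1)) = C ((n : ℚ) + 1) * (f ^ (n + 1) - F * f ^ (n + 2)) := by
    rw [h]
    have hC : ((n + 1 : ℕ) : PowerSeries ℚ) = C ((n : ℚ) + 1) := by
      rw [← map_natCast (C (R := ℚ))]; congr 1; push_cast; ring
    rw [hC, show n + 1 - 1 = n from rfl]
    linear_combination (C ((n : ℚ) + 1) * f ^ n) * euler_identity hf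
  have h3 := congrArg (coeff (n + 1)) h2
  rw [coeff_succ_X_mul, coeff_C_mul, map_sub, coeff_derivative] at h3
  have hn : ((n : ℚ) + 1) ≠ 0 := by positivity
  apply mul_left_cancel₀ hn
  linarith

lemma todd_constantCoeff (hf : f * (E - 1) = X * E) : constantCoeff f = 1 := by
  have h := congrArg (coeff 1) hf
  simp [coeff_mul, Finset.Nat.antidiagonal_succ, coeff_exp, E] at h
  exact h

lemma coeff_rescale_mul_pow_succ (hf : f * (E - 1) = X * E) (m : ℚ) (n : ℕ) :
    coeff (n + 1) (rescale m E * f ^ (n + 2)) =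
      coeff (n + 1) (rescale (m - 1) E * f ^ (n + 2)) + coeff n (rescale m E * f ^ (n + 1)) := by
  have hm : rescale m E = rescale (m - 1) E * E := by
    have := exp_mul_exp_eq_exp_add (A := ℚ) (m - 1) 1
    rw [sub_add_cancel, rescale_one] at this
    exact this.symm
  have h : rescale m E * f ^ (n + 2) - rescale (m - 1) E * f ^ (n + 2) =
      X * (rescale m E * f ^ (n + 1)) := by
    rw [hm]
    linear_combination (rescale (m - 1) E * f ^ (n + 1)) * hf
  have h2 := congrArg (coeff (n + 1)) h
  rw [coeff_succ_X_mul, map_sub] at h2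
  linarith

/-- `[t^n] e^{mt} f^{n+1} = C(m+n, n)`. -/
theorem coeff_rescale_mul_pow (hf : f * (E - 1) = X * E) (n : ℕ) :
    ∀ m : ℤ, coeff n (rescale (m : ℚ) E * f ^ (n + 1)) = ((Ring.choose (m + n : ℤ) n : ℤ) : ℚ) := by
  induction n with
  | zero =>
    intro m
    rw [coeff_zero_eq_constantCoeff_apply, map_mul, ← coeff_zero_eq_constantCoeff_apply,
      coeff_rescale, map_pow, todd_constantCoeff hf]
    simp [E]
  | succ n ih =>
    have step : ∀ m : ℤ, coeff (n + 1) (rescale ((m : ℤ) : ℚ) E * f ^ (n + 2)) =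
        coeff (n + 1) (rescale (((m - 1 : ℤ)) : ℚ) E * f ^ (n + 2)) +
          ((Ring.choose (m + n : ℤ) n : ℤ) : ℚ) := by
      intro m
      rw [coeff_rescale_mul_pow_succ hf, ih m]
      push_cast
      ring
    have pascal : ∀ m : ℤ, Ring.choose (m + (n + 1 : ℕ) : ℤ) (n + 1) =
        Ring.choose (m + n : ℤ) n + Ring.choose (m - 1 + (n + 1 : ℕ) : ℤ) (n + 1) := by
      intro m
      rw [show (m + (n + 1 : ℕ) : ℤ) = (m + n) + 1 by push_cast; ring,
        show (m - 1 + (n + 1 : ℕ) : ℤ) = m + n by push_cast; ring, Ring.choose_succ_succ]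
    intro m
    induction m using Int.inductionOn' (b := -1) with
    | zero =>
      rw [show (-1 + (n + 1 : ℕ) : ℤ) = (n : ℕ) by push_cast; ring, Ring.choose_natCast,
        Nat.choose_eq_zero_of_lt (Nat.lt_succ_self n), show ((-1 : ℤ) : ℚ) = -1 by norm_num]
      show coeff (n + 1) (evalNegHom (exp ℚ) * f ^ (n + 2)) = _
      simpa using coeff_exp_neg_mul_pow hf n
    | succ k _ ihk =>
      rw [step (k + 1), pascal (k + 1)]
      simp only [add_sub_cancel_right] at *
      rw [ihk]
      push_cast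
      ring
    | pred k _ ihk =>
      rw [step k, pascal k] at ihk
      push_cast at ihk ⊢
      linarith

theorem coeff_pow_succ_eq_one (hf : f * (E - 1) = X * E) (n : ℕ) :
    coeff n (f ^ (n + 1)) = 1 := by
  have h := coeff_rescale_mul_pow hf n 0
  have h0 : rescale (0 : ℚ) E = 1 := by
    ext k; cases k <;> simp [coeff_rescale, E, coeff_exp]
  rw [Int.cast_zero, h0, one_mul, zero_add, Ring.choose_natCast, Nat.choose_self] at h
  simpa using h

lemma exists_todd : ∃ g : PowerSeries ℚ, g * (E - 1) = X * E := by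
  set u : PowerSeries ℚ := mk fun k => coeff (k + 1) E
  have hu : E - 1 = X * u := by
    ext k
    cases k with
    | zero => simp [E]
    | succ k => simp [u, coeff_succ_X_mul]
  have hu0 : constantCoeff u ≠ 0 := by
    simp [u, ← coeff_zero_eq_constantCoeff, E, coeff_exp]
  refine ⟨u⁻¹ * E, ?_⟩
  rw [hu]
  linear_combination (X * E) * PowerSeries.inv_mul_cancel u hu0

theorem eq_of_coeff_pow_succ_eq {f g : PowerSeries ℚ}
    (hf : ∀ n : ℕ, coeff n (f ^ (n + 1)) = 1) (hg : ∀ n : ℕ, coeff n (g ^ (n + 1)) = 1) :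
    f = g := by
  have hf0 : constantCoeff f = 1 := by simpa using hf 0
  have hg0 : constantCoeff g = 1 := by simpa using hg 0
  ext n
  induction n using Nat.strong_induction_on with
  | _ n ih =>
    obtain ⟨h, hh⟩ : X ^ n ∣ f - g := X_pow_dvd_iff.2 fun m hm => by rw [map_sub, ih m hm, sub_self]
    have hc : coeff n f - coeff n g = constantCoeff h := by
      rw [← map_sub, hh]; simpa using coeff_X_pow_mul h n 0
    have h2 := geom_sum₂_mul f g (n + 1)
    rw [hh, mul_comm, mul_assoc] at h2
    have h3 := congrArg (coeff n) h2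
    have h4 := coeff_X_pow_mul
      (h * ∑ i ∈ Finset.range (n + 1), f ^ i * g ^ (n + 1 - 1 - i)) n 0
    rw [zero_add] at h4
    rw [h4, map_sub, hf n, hg n, coeff_zero_eq_constantCoeff_apply] at h3
    simp [hf0, hg0] at h3
    have : constantCoeff h = 0 := h3.resolve_right (by positivity)
    linarith

theorem coeff_pow_succ_iff (f : PowerSeries ℚ) :
    (∀ n : ℕ, coeff n (f ^ (n + 1)) = 1) ↔ f * (E - 1) = X * E := by
  refine ⟨fun hf => ?_, fun hf n => coeff_pow_succ_eq_one hf n⟩
  obtain ⟨g, hg⟩ := exists_todd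
  rw [eq_of_coeff_pow_succ_eq hf (coeff_pow_succ_eq_one hg)]
  exact hg

end Groth.Surfaces.Todd
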