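import Groth.Prelude.Def_W4c3severiratdpLat
import Mathlib.Data.Fin.Tuple.Sort
import Mathlib.Algebra.Order.Chebyshev
import Mathlib.Data.List.OfFn
import Mathlib.Tactic

/-!
Enumeration of conic classes in the del Pezzo lattices `DP δ`, `δ ≤ 8`.
-/

namespace Groth.Surfaces.DPConics

open W4c3severiratdp

/-- All lists of naturals of length `d` with sum `s` and sum of squares `q`. -/
def vecs : ℕ → ℕ → ℕ → List (List ℕ)
  | 0, s, q => if s = 0 ∧ q = 0 then [[]] else []
  | d+1, s, q => if (d+1) * q < s * s ∨ q < s ∨ s*s < q then [] else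
      (List.range (s+1)).flatMap fun b =>
        if b * b ≤ q then (vecs d (s-b) (q-b*b)).map (b :: ·) else []

lemma sum_bounds (l : List ℕ) :
    l.sum * l.sum ≤ l.length * (l.map fun x => x * x).sum ∧ l.sum ≤ (l.map fun x => x * x).sum ∧
      (l.map fun x => x * x).sum ≤ l.sum * l.sum := by
  induction l with
  | nil => simp
  | cons b t ih =>
    obtain ⟨h1, h2, h3⟩ := ih
    simp only [List.sum_cons, List.map_cons, List.length_cons]
    generalize (t.map fun x => x * x).sum = Q at *
    have hz : t.length = 0 → t.sum = 0 := fun h => by simp [List.length_eq_zero_iff.1 h]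
    generalize t.sum = S at *
    refine ⟨?_, ?_, by nlinarith [Nat.zero_le (b * S)]⟩
    · rcases Nat.eq_zero_or_pos t.length with h | h
      · rw [hz h, h]
        nlinarith
      · have key : 2 * (S * b) ≤ Q + t.length * (b * b) := by
          refine Nat.le_of_mul_le_mul_left ?_ h
          zify at h1 ⊢
          nlinarith [sq_nonneg ((S : ℤ) - (t.length : ℤ) * (b : ℤ))]
        nlinarith
    · have := Nat.le_mul_self b
      omega

lemma mem_vecs : ∀ {d s q : ℕ} {l : List ℕ},
    l ∈ vecs d s q ↔ l.length = d ∧ l.sum = s ∧ (l.map fun x => x * x).sum = q := by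
  intro d
  induction d with
  | zero =>
    intro s q l
    unfold vecs
    constructor
    · intro h
      split_ifs at h with hc
      · simp only [List.mem_singleton] at h
        subst h
        simp [hc.1, hc.2]
      · simp at h
    · rintro ⟨hl, rfl, rfl⟩
      rw [List.length_eq_zero_iff.1 hl]
      simp
  | succ d ih =>
    intro s q l
    unfold vecs
    constructor
    · intro h
      split_ifs at h with hc
      · simp at h
      · obtain ⟨b, hb, h⟩ := List.mem_flatMap.1 h
        split_ifs at h with hbq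
        · obtain ⟨t, ht, rfl⟩ := List.mem_map.1 h
          obtain ⟨h1, h2, h3⟩ := ih.1 ht
          rw [List.mem_range] at hb
          simp only [List.sum_cons, List.map_cons, List.length_cons]
          omega
        · simp at h
    · rintro ⟨hl, hs, hq⟩
      obtain ⟨h1, h2, h3⟩ := sum_bounds l
      rw [hl, hs, hq] at h1
      rw [hs, hq] at h2 h3
      rw [if_neg (by omega)]
      obtain ⟨b, t, rfl⟩ : ∃ b t, l = b :: t := by
        cases l with
        | nil => simp at hl
        | cons b t => exact ⟨b, t, rfl⟩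
      simp only [List.sum_cons, List.map_cons, List.length_cons] at hl hs hq
      refine List.mem_flatMap.2 ⟨b, List.mem_range.2 (by omega), ?_⟩
      rw [if_pos (by omega)]
      exact List.mem_map.2 ⟨t, ih.2 ⟨by omega, by omega, by omega⟩, rfl⟩

lemma nodup_vecs : ∀ (d s q : ℕ), (vecs d s q).Nodup := by
  intro d
  induction d with
  | zero => intro s q; unfold vecs; split_ifs <;> simp
  | succ d ih =>
    intro s q
    unfold vecs
    split_ifs
    · simp
    · refine List.nodup_flatMap.2 ⟨fun b _ => ?_, List.nodup_range.imp fun {b c} hbc => ?_⟩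
      · split_ifs
        · exact (ih _ _).map List.cons_injective
        · simp
      · intro l h1 h2
        have key : ∀ x, l ∈ (if x * x ≤ q then (vecs d (s-x) (q-x*x)).map (x :: ·) else []) →
            l.head? = some x := by
          intro x hx
          split_ifs at hx
          · obtain ⟨t, -, rfl⟩ := List.mem_map.1 hx; rfl
          · simp at hx
        exact hbc (Option.some_injective _ ((key b h1).symm.trans (key c h2)))

/-- Conic classes of `DP δ`, `δ ≤ 8`, as lists `a :: b` of naturals. -/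
def conicList (δ : ℕ) : List (List ℕ) :=
  (List.range 12).flatMap fun a =>
    if a = 0 then [] else (vecs δ (3 * a - 2) (a * a)).map (a :: ·)

lemma nodup_conicList (δ : ℕ) : (conicList δ).Nodup := by
  refine List.nodup_flatMap.2 ⟨fun a _ => ?_, List.nodup_range.imp fun {a c} hac => ?_⟩
  · split_ifs
    · simp
    · exact (nodup_vecs _ _ _).map List.cons_injective
  · intro l h1 h2
    have key : ∀ x, l ∈ (if x = 0 then [] else (vecs δ (3 * x - 2) (x * x)).map (x :: ·)) →
        l.head? = some x := by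
      intro x hx
      split_ifs at hx
      · simp at hx
      · obtain ⟨t, -, rfl⟩ := List.mem_map.1 hx; rfl
    exact hac (Option.some_injective _ ((key a h1).symm.trans (key c h2)))

lemma mem_conicList {δ a : ℕ} {l : List ℕ} :
    a :: l ∈ conicList δ ↔ 1 ≤ a ∧ a ≤ 11 ∧ l.length = δ ∧ l.sum + 2 = 3 * a ∧
      (l.map fun x => x * x).sum = a * a := by
  constructor
  · intro h
    obtain ⟨x, hx, h⟩ := List.mem_flatMap.1 h
    rw [List.mem_range] at hx
    split_ifs at h with hx0
    · simp at h
    · obtain ⟨t, ht, he⟩ := List.mem_map.1 h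
      obtain ⟨rfl, rfl⟩ := List.cons.inj he
      obtain ⟨h1, h2, h3⟩ := mem_vecs.1 ht
      exact ⟨by omega, by omega, h1, by omega, h3⟩
  · rintro ⟨h1, h2, h3, h4, h5⟩
    refine List.mem_flatMap.2 ⟨a, List.mem_range.2 (by omega), ?_⟩
    rw [if_neg (by omega)]
    exact List.mem_map.2 ⟨l, mem_vecs.2 ⟨h3, by omega, h5⟩, rfl⟩

lemma isConic_iff {δ : ℕ} (v : DP δ) :
    IsConic v ↔ (∑ i : Fin δ, v i.succ = 3 * v 0 - 2) ∧ (∑ i : Fin δ, v i.succ ^ 2 = v 0 ^ 2) := by
  unfold IsConic form
  simp only [canon, Fin.cases_zero, Fin.cases_succ, neg_mul, one_mul, Finset.sum_neg_distrib,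
    ← sq]
  constructor <;> rintro ⟨h1, h2⟩ <;> constructor <;> linarith

lemma bounds_of_isConic {δ : ℕ} (hδ : δ ≤ 8) {v : DP δ} (hv : IsConic v) :
    1 ≤ v 0 ∧ v 0 ≤ 11 ∧ ∀ i : Fin δ, 0 ≤ v i.succ := by
  obtain ⟨h1, h2⟩ := (isConic_iff v).1 hv
  have hcs := sq_sum_le_card_mul_sum_sq (s := (Finset.univ : Finset (Fin δ))) (f := fun i => v i.succ)
  simp only [Finset.card_univ, Fintype.card_fin] at hcs
  rw [h1, h2] at hcs
  have hδ' : (δ : ℤ) ≤ 8 := by exact_mod_cast hδ
  have h8 : (3 * v 0 - 2) ^ 2 ≤ 8 * v 0 ^ 2 := by nlinarith [sq_nonneg (v 0)]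
  have ha : 1 ≤ v 0 := by nlinarith
  refine ⟨ha, by nlinarith, fun i => ?_⟩
  by_contra hneg
  have hcs' := sq_sum_le_card_mul_sum_sq (s := (Finset.univ : Finset (Fin δ)).erase i)
    (f := fun i => v i.succ)
  rw [Finset.sum_erase_eq_sub (Finset.mem_univ i), Finset.sum_erase_eq_sub (Finset.mem_univ i),
    h1, h2, Finset.card_erase_of_mem (Finset.mem_univ i), Finset.card_univ, Fintype.card_fin] at hcs'
  have h7 : ((δ - 1 : ℕ) : ℤ) ≤ 7 := by omega
  have hnn : 0 ≤ v 0 ^ 2 - v i.succ ^ 2 := by
    have := Finset.single_le_sum (f := fun j : Fin δ => v j.succ ^ 2) (fun j _ => sq_nonneg _)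
      (Finset.mem_univ i)
    linarith
  have h9 : (3 * v 0 - 2 - v i.succ) ^ 2 ≤ 7 * (v 0 ^ 2 - v i.succ ^ 2) := by nlinarith
  obtain ⟨c, hc, hceq⟩ : ∃ c : ℤ, 1 ≤ c ∧ v i.succ = -c := ⟨-v i.succ, by omega, by ring⟩
  rw [hceq] at h9
  nlinarith [mul_le_mul ha hc zero_le_one (by linarith)]

/-- The coordinates of a class as a list of naturals. -/
def toList {δ : ℕ} (v : DP δ) : List ℕ :=
  (v 0).toNat :: List.ofFn fun i : Fin δ => (v i.succ).toNat

lemma toList_mem {δ : ℕ} (hδ : δ ≤ 8) {v : DP δ} (hv : IsConic v) : toList v ∈ conicList δ := by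
  obtain ⟨ha, ha', hb⟩ := bounds_of_isConic hδ hv
  obtain ⟨h1, h2⟩ := (isConic_iff v).1 hv
  refine mem_conicList.2 ⟨by omega, by omega, List.length_ofFn, ?_, ?_⟩
  · have : ((List.ofFn fun i : Fin δ => (v i.succ).toNat).sum : ℤ) = ∑ i : Fin δ, v i.succ := by
      rw [List.sum_ofFn, Nat.cast_sum]
      exact Finset.sum_congr rfl fun i _ => Int.toNat_of_nonneg (hb i)
    omega
  · have : ((((List.ofFn fun i : Fin δ => (v i.succ).toNat).map fun x : ℕ => x * x).sum : ℕ) : ℤ) =
        ((v 0).toNat * (v 0).toNat : ℕ) := by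
      rw [List.map_ofFn, List.sum_ofFn, Nat.cast_sum, Nat.cast_mul, Int.toNat_of_nonneg (by omega),
        ← sq, ← h2]
      exact Finset.sum_congr rfl fun i _ => by
        rw [Function.comp_apply, Nat.cast_mul, Int.toNat_of_nonneg (hb i), sq]
    exact_mod_cast this

lemma toList_injOn {δ : ℕ} (hδ : δ ≤ 8) : Set.InjOn toList {v : DP δ | IsConic v} := by
  intro v hv w hw h
  obtain ⟨ha, -, hb⟩ := bounds_of_isConic hδ hv
  obtain ⟨ha', -, hb'⟩ := bounds_of_isConic hδ hw
  obtain ⟨h0, h1⟩ := List.cons.inj h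
  funext i
  induction i using Fin.cases with
  | zero => omega
  | succ j =>
    have := congrFun (List.ofFn_injective h1) j
    have := hb j
    have := hb' j
    omega

lemma ncard_conic {δ : ℕ} (hδ : δ ≤ 8) :
    {v : DP δ | IsConic v}.ncard = (conicList δ).length := by
  rw [← List.toFinset_card_of_nodup (nodup_conicList δ), ← Set.ncard_coe_finset,
    ← (toList_injOn hδ).ncard_image]
  congr 1
  ext l
  simp only [Set.mem_image, List.coe_toFinset, Set.mem_ofPred_eq]
  constructor
  · rintro ⟨v, hv, rfl⟩; exact toList_mem hδ hv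
  · intro hl
    obtain ⟨a, t, rfl⟩ : ∃ a t, l = a :: t := by
      obtain ⟨x, -, h⟩ := List.mem_flatMap.1 hl
      split_ifs at h
      · simp at h
      · obtain ⟨t, -, rfl⟩ := List.mem_map.1 h; exact ⟨x, t, rfl⟩
    obtain ⟨-, -, hlen, hsum, hsq⟩ := mem_conicList.1 hl
    refine ⟨Fin.cases (a : ℤ) (fun i : Fin δ => ((t.get (Fin.cast hlen.symm i) : ℕ) : ℤ)), ?_, ?_⟩
    · rw [isConic_iff]
      simp only [Fin.cases_succ, Fin.cases_zero]
      subst hlen
      simp only [Fin.cast_eq_self]
      constructor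
      · have : ((t.sum : ℕ) : ℤ) = ∑ i : Fin t.length, (t.get i : ℤ) := by
          conv_lhs => rw [← List.ofFn_get t, List.sum_ofFn]
          push_cast; rfl
        rw [← this]
        omega
      · have : (((t.map fun x => x * x).sum : ℕ) : ℤ) = ∑ i : Fin t.length, (t.get i : ℤ) ^ 2 := by
          conv_lhs => rw [← List.ofFn_get t, List.map_ofFn, List.sum_ofFn]
          push_cast; exact Finset.sum_congr rfl fun i _ => by simp [sq]
        rw [← this, hsq]
        push_cast; ring
    · subst hlen
      simp [toList]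

end Groth.Surfaces.DPConics
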