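import Groth.Agent.Surfaces.DPWeyl

/-!
Orbits of the Weyl group of `DP δ` on conic classes, exceptional classes and their pairs.
-/

namespace Groth.Surfaces.DPOrbits

open W4c3severiratdp Groth.Surfaces.DPConics Groth.Surfaces.DPWeyl

instance {δ : ℕ} : DecidablePred (IsExc (δ := δ)) := fun v =>
  inferInstanceAs (Decidable (form v v = -1 ∧ form (canon δ) v = -1))

/-- The conic class of a line through the first point. -/
def Q0 (δ : ℕ) : DP δ := ofList δ 0 [1, 1]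

/-- The exceptional class over the first point. -/
def L0 : DP 8 := ofList 8 1 [0, 0, 1, 1, 1, 1, 1, 1, 1]

/-- The exceptional class over the last point. -/
def E7 : DP 8 := ofList 8 1 [0, 1, 1, 1, 1, 1, 1, 1, 0]

/-- Chamber condition at the coordinates `c, c+1, c+2`. -/
def term {δ : ℕ} (c : ℕ) (v : DP δ) : Bool :=
  decide (δ < c + 3 ∨ coord v c + coord v (c + 1) + coord v (c + 2) ≤ v 0)

lemma step {δ : ℕ} (F : List (DP δ)) (c : ℕ)
    (hF : ∀ f ∈ F, f 0 = coord f c + coord f (c + 1) + coord f (c + 2)) (v : DP δ) :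
    term c v = true ∨ ∃ w, Rel F v w ∧ w 0 < v 0 := by
  by_cases h : term c v = true
  · exact Or.inl h
  · simp only [term, decide_eq_true_eq, not_or, not_lt, not_le] at h
    exact Or.inr (rel_root3_lt F h.1 hF v h.2)

lemma rel_nil_of {δ : ℕ} {F : List (DP δ)} {v w : DP δ} (h : Rel F v w) : Rel [] v w := by
  obtain ⟨g, hg, -, e⟩ := h
  exact ⟨g, hg, by simp, e⟩

/-! ### Conics -/

def chamber (δ m c : ℕ) : List (DP δ) :=
  (conicVecs δ).filter fun v => sortedB m v && term c v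

lemma chamber_one (δ : ℕ) (h8 : δ ≤ 8) : ∀ v ∈ chamber δ 0 0, v = Q0 δ := by
  interval_cases δ <;> decide +kernel

lemma chamber_two (δ : ℕ) (h8 : δ ≤ 8) : ∀ v ∈ chamber δ 1 0, ∀ w ∈ chamber δ 1 0,
    form (Q0 δ) v = form (Q0 δ) w → v = w ∨ (δ = 8 ∧ form (Q0 δ) v = 4) := by
  interval_cases δ <;> decide +kernel

lemma mem_chamber {δ m c : ℕ} (h8 : δ ≤ 8) {v : DP δ} (hv : IsConic v)
    (h1 : sortedB m v = true) (h2 : term c v = true) : v ∈ chamber δ m c :=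
  List.mem_filter.2 ⟨mem_conicVecs h8 hv, by simp [h1, h2]⟩

lemma conic_rel_Q0 {δ : ℕ} (h8 : δ ≤ 8) {v : DP δ} (hv : IsConic v) : Rel [] v (Q0 δ) := by
  obtain ⟨w, hw, hc, hT, hs⟩ := descend [] 0 (by simp) IsConic (fun w => term 0 w = true)
    (fun _ _ h h' => h.isConic h') (fun u hu => by have := (bounds_of_isConic h8 hu).1; omega)
    (fun u _ _ => step [] 0 (by simp) u) v hv
  exact chamber_one δ h8 w (mem_chamber h8 hc hs hT) ▸ hw

lemma Q0_root {δ : ℕ} (h2 : 2 ≤ δ) (f : DP δ) (hf : f ∈ [Q0 δ]) :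
    f 0 = coord f 0 + coord f (0 + 1) + coord f (0 + 2) := by
  rw [List.mem_singleton] at hf
  subst hf
  by_cases h3 : 2 < δ <;>
    simp [Q0, ofList, coord, show 0 < δ by omega, show 1 < δ by omega, h3]

lemma Q0_const {δ : ℕ} (f : DP δ) (hf : f ∈ [Q0 δ]) : ConstFrom 1 f := by
  rw [List.mem_singleton] at hf
  subst hf
  intro i j hi hj
  simp [Q0, ofList, List.getD_eq_getElem?_getD,
    List.getElem?_eq_none (show [1].length ≤ (i : ℕ) by simpa using hi),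
    List.getElem?_eq_none (show [1].length ≤ (j : ℕ) by simpa using hj)]

lemma conic_normal {δ : ℕ} (h2 : 2 ≤ δ) (h8 : δ ≤ 8) {v : DP δ} (hv : IsConic v) :
    ∃ w, Rel [Q0 δ] v w ∧ w ∈ chamber δ 1 0 := by
  obtain ⟨w, hw, hc, hT, hs⟩ := descend [Q0 δ] 1 Q0_const IsConic (fun w => term 0 w = true)
    (fun _ _ h h' => h.isConic h') (fun u hu => by have := (bounds_of_isConic h8 hu).1; omega)
    (fun u _ _ => step [Q0 δ] 0 (Q0_root h2) u) v hv
  exact ⟨w, hw, mem_chamber h8 hc hs hT⟩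

/-- Two conics can be moved so that the first is `Q0` and the second is in the chamber. -/
lemma pair_normal {δ : ℕ} (h2 : 2 ≤ δ) (h8 : δ ≤ 8) {v₁ v₂ : DP δ} (hv₁ : IsConic v₁)
    (hv₂ : IsConic v₂) : ∃ (g : DP δ ≃ₗ[ℤ] DP δ) (w : DP δ), IsWeyl g ∧ g v₁ = Q0 δ ∧ g v₂ = w ∧
      w ∈ chamber δ 1 0 ∧ form (Q0 δ) w = form v₁ v₂ := by
  obtain ⟨g, hg, -, h1⟩ := conic_rel_Q0 h8 hv₁
  obtain ⟨w, ⟨g', hg', hF, h2'⟩, hw⟩ := conic_normal h2 h8
    (Rel.isConic ⟨g, hg, (by simp : ∀ f ∈ ([] : List (DP δ)), g f = f), rfl⟩ hv₂)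
  have e1 : (g.trans g') v₁ = Q0 δ := by
    rw [LinearEquiv.trans_apply, h1, hF _ (List.mem_singleton.2 rfl)]
  have e2 : (g.trans g') v₂ = w := by rw [LinearEquiv.trans_apply, h2']
  refine ⟨g.trans g', w, isWeyl_trans hg hg', e1, e2, hw, ?_⟩
  rw [← e1, ← e2, (isWeyl_trans hg hg').1]

lemma pair_orbit {δ : ℕ} (h2 : 2 ≤ δ) (h8 : δ ≤ 8) {v₁ v₂ w₁ w₂ : DP δ}
    (hv₁ : IsConic v₁) (hv₂ : IsConic v₂) (hw₁ : IsConic w₁) (hw₂ : IsConic w₂)
    (heq : form v₁ v₂ = form w₁ w₂) (hexc : ¬ (δ = 8 ∧ form v₁ v₂ = 4)) :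
    ∃ g : DP δ ≃ₗ[ℤ] DP δ, IsWeyl g ∧ g v₁ = w₁ ∧ g v₂ = w₂ := by
  obtain ⟨g, a, hg, g1, g2, ha, hfa⟩ := pair_normal h2 h8 hv₁ hv₂
  obtain ⟨g', b, hg', g1', g2', hb, hfb⟩ := pair_normal h2 h8 hw₁ hw₂
  have hab : a = b := (chamber_two δ h8 a ha b hb (by rw [hfa, hfb, heq])).resolve_right
    (by rw [hfa]; exact hexc)
  refine ⟨g.trans g'.symm, isWeyl_trans hg (isWeyl_symm hg'), ?_, ?_⟩ <;>
    rw [LinearEquiv.trans_apply, LinearEquiv.symm_apply_eq]
  · rw [g1, g1']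
  · rw [g2, g2', hab]

/-! ### Exceptional classes -/

def excChamber (m c : ℕ) : List (DP 8) := excVecs.filter fun v => sortedB m v && term c v

lemma mem_excChamber {m c : ℕ} {v : DP 8} (hv : IsExc v) (h1 : sortedB m v = true)
    (h2 : term c v = true) : v ∈ excChamber m c :=
  List.mem_filter.2 ⟨mem_excVecs hv, by simp [h1, h2]⟩

lemma exc_chamber_one : ∀ v ∈ excChamber 0 0, v = E7 := by decide +kernel

lemma rel_E7_L0 : Rel [] E7 L0 :=
  ⟨permW (Equiv.swap 0 7), isWeyl_permW _, by simp, by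
    ext i
    induction i using Fin.cases with
    | zero => rfl
    | succ i => rw [permW_succ]; revert i; decide +kernel⟩

lemma exc_rel_L0 {v : DP 8} (hv : IsExc v) : Rel [] v L0 := by
  obtain ⟨w, hw, hc, hT, hs⟩ := descend [] 0 (by simp) IsExc (fun w => term 0 w = true)
    (fun _ _ h h' => h.isExc h') (fun u hu => (bounds_of_isExc hu).1)
    (fun u _ _ => step [] 0 (by simp) u) v hv
  exact (exc_chamber_one w (mem_excChamber hc hs hT) ▸ hw).trans rel_E7_L0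

lemma exc_chamber_two : ∀ v ∈ excChamber 1 1, ∀ w ∈ excChamber 1 1,
    form L0 v = form L0 w → v = w := by decide +kernel

lemma exc_normal {v : DP 8} (hv : IsExc v) : ∃ w, Rel [L0] v w ∧ w ∈ excChamber 1 1 := by
  obtain ⟨w, hw, hc, hT, hs⟩ := descend [L0] 1
    (List.forall_mem_singleton.2 (by decide +kernel)) IsExc (fun w => term 1 w = true)
    (fun _ _ h h' => h.isExc h') (fun u hu => (bounds_of_isExc hu).1)
    (fun u _ _ => step [L0] 1 (List.forall_mem_singleton.2 (by decide +kernel)) u) v hv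
  exact ⟨w, hw, mem_excChamber hc hs hT⟩

lemma exc_orbit {L L₁ L₂ : DP 8} (hL : IsExc L) (hL₁ : IsExc L₁) (hL₂ : IsExc L₂)
    (h : form L₁ L = form L₂ L) : Rel [L] L₁ L₂ := by
  obtain ⟨g, hg, -, hgL⟩ := exc_rel_L0 hL
  have hx : ∀ {x}, IsExc x → ∃ w, Rel [L0] (g x) w ∧ w ∈ excChamber 1 1 ∧ form L0 w = form x L := by
    intro x hx
    obtain ⟨w, hw, hmem⟩ := exc_normal
      (Rel.isExc ⟨g, hg, (by simp : ∀ f ∈ ([] : List (DP 8)), g f = f), rfl⟩ hx)
    refine ⟨w, hw, hmem, ?_⟩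
    rw [hw.form_fixed_eq (List.mem_singleton.2 rfl), ← hgL, hg.1, form_comm]
  obtain ⟨a, ha, ha', hfa⟩ := hx hL₁
  obtain ⟨b, hb, hb', hfb⟩ := hx hL₂
  have hab := exc_chamber_two a ha' b hb' (by rw [hfa, hfb, h])
  subst hab
  obtain ⟨f, hf, hfF, hfe⟩ := ha.trans hb.symm
  refine ⟨(g.trans f).trans g.symm, isWeyl_trans (isWeyl_trans hg hf) (isWeyl_symm hg), ?_, ?_⟩
  · intro y hy
    rw [List.mem_singleton] at hy
    subst hy
    rw [LinearEquiv.trans_apply, LinearEquiv.trans_apply, LinearEquiv.symm_apply_eq, hgL,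
      hfF _ (List.mem_singleton.2 rfl)]
  · rw [LinearEquiv.trans_apply, LinearEquiv.trans_apply, LinearEquiv.symm_apply_eq, hfe]

end Groth.Surfaces.DPOrbits
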