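import Groth.Agent.SchemeMorphisms.Points
import Mathlib.RingTheory.Ideal.KrullsHeightTheorem
import Mathlib.AlgebraicGeometry.IdealSheaf.Subscheme
import Mathlib.RingTheory.DedekindDomain.Basic
import Mathlib.Tactic

/-!
Closed points of the generic fibre specializing to a given closed point of a closed fibre.
-/

universe u

open AlgebraicGeometry CategoryTheory TopologicalSpace

namespace Groth.Surfaces

/-- A Noetherian local ring and a prime `Q` maximal among those not containing `s`:
there is nothing strictly between `Q` and the maximal ideal. -/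
lemma eq_maximalIdeal_of_forall_mem {O : Type*} [CommRing O] [IsDomain O] [IsNoetherianRing O]
    [IsLocalRing O] {s : O} (hs : ∀ P : Ideal O, P.IsPrime → P ≠ ⊥ → s ∈ P) (hs0 : s ≠ 0)
    (P : Ideal O) [hP : P.IsPrime] (hP0 : P ≠ ⊥) : P = IsLocalRing.maximalIdeal O := by
  classical
  have hfin : (Ideal.span {s}).minimalPrimes.Finite := (Ideal.span {s}).finite_minimalPrimes_of_isNoetherianRing
  have key : ∀ a : O, a ∈ IsLocalRing.maximalIdeal O → a ≠ 0 →
      ∃ Q ∈ (Ideal.span {s}).minimalPrimes, a ∈ Q := by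
    intro a ha ha0
    obtain ⟨Q, hQ, -⟩ := Ideal.exists_minimalPrimes_le
      (show Ideal.span {a} ≤ IsLocalRing.maximalIdeal O from (Ideal.span_singleton_le_iff_mem _).2 ha)
    haveI hQp : Q.IsPrime := hQ.1.1
    have haQ : a ∈ Q := hQ.1.2 (Ideal.mem_span_singleton_self a)
    have hQ0 : Q ≠ ⊥ := fun h => ha0 (Ideal.mem_bot.1 (h ▸ haQ))
    have hht : Q.height ≤ 1 := Ideal.height_le_one_of_isPrincipal_of_mem_minimalPrimes (Ideal.span {a}) Q hQ
    refine ⟨Q, ⟨⟨hQp, (Ideal.span_singleton_le_iff_mem _).2 (hs Q hQp hQ0)⟩, ?_⟩, haQ⟩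
    rintro Q' ⟨hQ'p, hQ's⟩ hle
    by_contra hne
    have hQ'0 : Q' ≠ ⊥ := fun h => hs0 (Ideal.mem_bot.1 (h ▸ hQ's (Ideal.mem_span_singleton_self s)))
    haveI := hQ'p
    have h1 : (⊥ : Ideal O).height < Q'.height :=
      Ideal.height_strict_mono_of_isPrime (bot_lt_iff_ne_bot.2 hQ'0)
    have h2 : Q'.height < Q.height := Ideal.height_strict_mono_of_isPrime (lt_of_le_not_ge hle hne)
    have h3 : Q'.height < 1 := h2.trans_le hht
    rw [ENat.lt_one_iff_eq_zero] at h3
    rw [h3] at h1
    exact not_lt_zero' h1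
  have hsub : ((IsLocalRing.maximalIdeal O : Ideal O) : Set O) ⊆
      ⋃ Q ∈ (hfin.toFinset : Set (Ideal O)), (id Q : Ideal O) := by
    intro a ha
    simp only [Set.Finite.coe_toFinset, Set.mem_iUnion, id, SetLike.mem_coe, exists_prop]
    by_cases ha0 : a = 0
    · obtain ⟨Q, hQ, -⟩ := key s (IsLocalRing.le_maximalIdeal hP.ne_top (hs P hP hP0)) hs0
      exact ⟨Q, hQ, ha0 ▸ Q.zero_mem⟩
    · exact key a ha ha0
  obtain ⟨Q, hQ, hmQ⟩ := (Ideal.subset_union_prime ⊥ ⊥
    (fun i hi _ _ => (hfin.mem_toFinset.1 hi).1.1)).1 hsub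
  rw [Set.Finite.mem_toFinset] at hQ
  refine le_antisymm (IsLocalRing.le_maximalIdeal hP.ne_top) (hmQ.trans ?_)
  haveI := hQ.1.1
  exact hQ.2 ⟨hP, (Ideal.span_singleton_le_iff_mem _).2 (hs P hP hP0)⟩
    (le_trans (IsLocalRing.le_maximalIdeal hP.ne_top) hmQ)

theorem exists_closedPoint_genericFibre {R : Type u} [CommRing R] [IsDedekindDomain R]
    {X : Scheme.{u}} [IrreducibleSpace X] (f : X ⟶ Spec (CommRingCat.of R)) [LocallyOfFiniteType f]
    [QuasiCompact f] (hdom : DenseRange f.base) (x' : X) (hx' : IsClosed ({x'} : Set X))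
    (hs : (f.base x').asIdeal.IsMaximal) :
    ∃ x : X, (f.base x).asIdeal = ⊥ ∧ (∀ z : X, (f.base z).asIdeal = ⊥ → x ⤳ z → z = x) ∧ x ⤳ x' := by
  by_cases hbot : (f.base x').asIdeal = ⊥
  · exact ⟨x', hbot, fun z _ hz => by simpa [hx'.closure_eq] using hz.mem_closure, specializes_rfl⟩
  haveI : IsLocallyNoetherian X := LocallyOfFiniteType.isLocallyNoetherian f
  let O := X.presheaf.stalk x'
  let j := X.fromSpecStalk x'
  let φ : R →+* O := (Spec.preimage (j ≫ f)).hom
  have hφ : ∀ q : Spec O, f.base (j.base q) = PrimeSpectrum.comap φ q := fun q => by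
    have h : Spec.map (Spec.preimage (j ≫ f)) = j ≫ f := Spec.map_preimage _
    exact (congrArg (fun g : Spec O ⟶ Spec (CommRingCat.of R) => g.base q) h).symm
  obtain ⟨s, hsP, hs0⟩ := Submodule.exists_mem_ne_zero_of_ne_bot hbot
  -- the generic point lies over the generic point
  have hη : (f.base (genericPoint X)).asIdeal = ⊥ := by
    obtain ⟨y, hy⟩ := SchemeMorphisms.exists_specializes_of_mem_closure_range f
      (s := (⟨⊥, Ideal.bot_prime⟩ : PrimeSpectrum R)) (by rw [hdom.closure_range]; trivial)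
    have h1 : f.base (genericPoint X) ⤳ (⟨⊥, Ideal.bot_prime⟩ : PrimeSpectrum R) :=
      ((genericPoint_specializes y).map f.continuous).trans hy
    exact le_bot_iff.1 ((PrimeSpectrum.le_iff_specializes _ _).2 h1)
  obtain ⟨q0, hq0⟩ : genericPoint X ∈ Set.range j.base := by
    rw [Scheme.range_fromSpecStalk]; exact genericPoint_specializes x'
  let T : Set (Ideal O) := {I | ∃ q : Spec O, q.asIdeal = I ∧ (f.base (j.base q)).asIdeal = ⊥}
  obtain ⟨I, ⟨q, rfl, hqbot⟩, hqmax⟩ :=
    set_has_maximal_iff_noetherian.2 inferInstance T ⟨_, q0, rfl, by rw [hq0]; exact hη⟩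
  have hspecx' : j.base q ⤳ x' := by
    have : j.base q ∈ Set.range j.base := ⟨q, rfl⟩
    rwa [Scheme.range_fromSpecStalk] at this
  have hp : ∀ y : X, y ⤳ x' → (f.base y).asIdeal ≤ (f.base x').asIdeal := fun y hy =>
    (PrimeSpectrum.le_iff_specializes _ _).2 (hy.map f.continuous)
  -- above `q` in `O` there is only the closed point
  have hline : ∀ r : Spec O, q.asIdeal < r.asIdeal → j.base r = x' := by
    intro r hr
    have hrT : (f.base (j.base r)).asIdeal ≠ ⊥ := fun h => hqmax r.asIdeal ⟨r, rfl, h⟩ hr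
    haveI : r.asIdeal.IsPrime := r.2
    haveI : q.asIdeal.IsPrime := q.2
    let P := r.asIdeal.map (Ideal.Quotient.mk q.asIdeal)
    haveI : P.IsPrime := Ideal.map_isPrime_of_surjective Ideal.Quotient.mk_surjective
      (by rw [Ideal.mk_ker]; exact hr.le)
    have hP0 : P ≠ ⊥ := by
      rw [Ne, Ideal.map_eq_bot_iff_le_ker, Ideal.mk_ker]; exact not_le_of_gt hr
    haveI : IsLocalRing (O ⧸ q.asIdeal) :=
      IsLocalRing.of_surjective' _ Ideal.Quotient.mk_surjective
    have h := eq_maximalIdeal_of_forall_mem (O := O ⧸ q.asIdeal)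
      (s := Ideal.Quotient.mk q.asIdeal (φ s)) (fun Q hQ hQ0 => by
        have hlt : q.asIdeal < Q.comap (Ideal.Quotient.mk q.asIdeal) := by
          refine lt_of_le_not_ge (fun z hz => ?_) fun hle => hQ0 ?_
          · rw [Ideal.mem_comap, Ideal.Quotient.eq_zero_iff_mem.2 hz]; exact Q.zero_mem
          · rw [← Ideal.map_comap_of_surjective _ Ideal.Quotient.mk_surjective Q,
              Ideal.map_eq_bot_iff_le_ker, Ideal.mk_ker]
            exact hle
        let r' : Spec O := ⟨Q.comap (Ideal.Quotient.mk q.asIdeal), inferInstance⟩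
        have hne : (f.base (j.base r')).asIdeal ≠ ⊥ := fun h => hqmax _ ⟨r', rfl, h⟩ hlt
        have hmem : j.base r' ∈ Set.range j.base := ⟨r', rfl⟩
        rw [Scheme.range_fromSpecStalk] at hmem
        have heq : (f.base (j.base r')).asIdeal = (f.base x').asIdeal :=
          ((f.base (j.base r')).2.isMaximal hne).eq_of_le hs.ne_top (hp _ hmem)
        have : s ∈ (f.base (j.base r')).asIdeal := heq ▸ hsP
        rw [hφ] at this
        exact this)
      (fun h => by
        rw [Ideal.Quotient.eq_zero_iff_mem] at h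
        have : s ∈ (f.base (j.base q)).asIdeal := by rw [hφ]; exact h
        rw [hqbot] at this
        exact hs0 (Ideal.mem_bot.1 this)) P hP0
    have hr' : r.asIdeal = IsLocalRing.maximalIdeal O := by
      have h1 : (P.comap (Ideal.Quotient.mk q.asIdeal)).IsMaximal := by
        rw [h]; exact Ideal.comap_isMaximal_of_surjective _ Ideal.Quotient.mk_surjective
      rw [Ideal.comap_map_of_surjective _ Ideal.Quotient.mk_surjective, sup_eq_left.2
        (by rw [← RingHom.ker_eq_comap_bot, Ideal.mk_ker]; exact hr.le)] at h1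
      exact IsLocalRing.eq_maximalIdeal h1
    have : r = IsLocalRing.closedPoint O := PrimeSpectrum.ext hr'
    rw [this]
    exact X.fromSpecStalk_closedPoint
  refine ⟨j.base q, hqbot, ?_, hspecx'⟩
  -- the closed subscheme `closure {x}` is quasi-finite at `x'`, hence at `x`
  let C : Closeds X := ⟨closure {j.base q}, isClosed_closure⟩
  let Isheaf := Scheme.IdealSheafData.vanishingIdeal C
  let ι := Isheaf.subschemeι
  have hrange : Set.range ι.base = closure {j.base q} := by
    show Set.range Isheaf.subschemeι = _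
    rw [Scheme.IdealSheafData.range_subschemeι]
    rfl
  let g := ι ≫ f
  obtain ⟨a, ha⟩ : j.base q ∈ Set.range ι.base := hrange ▸ subset_closure rfl
  obtain ⟨a', ha'⟩ : x' ∈ Set.range ι.base := hrange ▸ hspecx'.mem_closure
  have hinj : Function.Injective ι.base := ι.isClosedEmbedding.injective
  have hgen : ∀ b, a ⤳ b := fun b => ι.isClosedEmbedding.isInducing.specializes_iff.1
    (ha ▸ specializes_iff_mem_closure.2 (hrange ▸ Set.mem_range_self b))
  have hclosed : IsClosed ({a'} : Set ↥Isheaf.subscheme) := by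
    rw [← hinj.preimage_image {a'}, Set.image_singleton, ha']
    exact hx'.preimage ι.continuous
  have hQF : g.QuasiFiniteAt a' := by
    rw [SchemeMorphisms.quasiFiniteAt_iff_closed_noGen]
    refine ⟨?_, fun w hw => ?_⟩
    · have he := (g.fiberι (g a')).isEmbedding.injective
      rw [← he.preimage_image {g.asFiber a'}, Set.image_singleton, Scheme.Hom.fiberι_asFiber]
      exact hclosed.preimage (g.fiberι (g a')).continuous
    · apply (g.fiberι (g a')).isEmbedding.injective
      rw [Scheme.Hom.fiberι_asFiber]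
      set b := g.fiberι (g a') w with hb
      have hgb : g b = g a' := by
        have : b ∈ Set.range (g.fiberι (g a')) := ⟨w, rfl⟩
        rwa [Scheme.Hom.range_fiberι] at this
      have hba' : b ⤳ a' := by
        have := hw.map (g.fiberι (g a')).continuous
        rwa [Scheme.Hom.fiberι_asFiber] at this
      apply hinj
      rw [ha']
      obtain ⟨r, hr⟩ : ι.base b ∈ Set.range j.base := by
        rw [Scheme.range_fromSpecStalk]; exact ha' ▸ hba'.map ι.continuous
      have hqr : q.asIdeal ≤ r.asIdeal := by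
        refine (PrimeSpectrum.le_iff_specializes q r).2 ?_
        have : j.base q ⤳ j.base r := hr ▸ ha ▸ (hgen b).map ι.continuous
        exact j.isEmbedding.isInducing.specializes_iff.1 this
      rcases hqr.eq_or_lt with h | h
      · exfalso
        have hqr' : q = r := PrimeSpectrum.ext h
        apply hbot
        rw [← ha']
        show (g a').asIdeal = ⊥
        rw [← hgb]
        show (f.base (ι.base b)).asIdeal = ⊥
        rw [← hr, ← hqr']
        exact hqbot
      · rw [← hr]; exact hline r h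
  have hQFa : g.QuasiFiniteAt a :=
    (hgen a').mem_open g.quasiFiniteLocus.isOpen hQF
  rw [SchemeMorphisms.quasiFiniteAt_iff_closed_noGen] at hQFa
  intro z hz hxz
  obtain ⟨c, rfl⟩ : z ∈ Set.range ι.base := hrange ▸ hxz.mem_closure
  have hgc : g c = g a := by
    apply PrimeSpectrum.ext
    show (f.base (ι.base c)).asIdeal = (f.base (ι.base a)).asIdeal
    rw [hz, ha, hqbot]
  obtain ⟨c', hc'⟩ : c ∈ Set.range (g.fiberι (g a)) := by
    rw [Scheme.Hom.range_fiberι]; exact hgc
  have hspec : g.asFiber a ⤳ c' := by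
    refine (g.fiberι (g a)).isEmbedding.isInducing.specializes_iff.1 ?_
    rw [Scheme.Hom.fiberι_asFiber, hc']
    exact hgen c
  have : c' = g.asFiber a := by simpa [hQFa.1.closure_eq] using hspec.mem_closure
  rw [← hc', this, Scheme.Hom.fiberι_asFiber, ha]

end Groth.Surfaces
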