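import Groth.Agent.Surfaces.DPConics
import Mathlib.GroupTheory.Perm.Sign

/-!
Reflections and coordinate permutations in the Weyl group of `DP δ`, and the descent that
moves a class into a fundamental chamber.
-/

namespace Groth.Surfaces.DPWeyl

open W4c3severiratdp Groth.Surfaces.DPConics

variable {δ : ℕ}

lemma form_comm (v w : DP δ) : form v w = form w v := by
  unfold form
  rw [mul_comm (v 0)]
  congr 1
  exact Finset.sum_congr rfl fun i _ => mul_comm _ _

lemma form_add_left (u v w : DP δ) : form (u + v) w = form u w + form v w := by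
  simp only [form, Pi.add_apply, add_mul, Finset.sum_add_distrib]
  ring

lemma form_smul_left (c : ℤ) (v w : DP δ) : form (c • v) w = c * form v w := by
  simp only [form, Pi.smul_apply, smul_eq_mul, mul_assoc, ← Finset.mul_sum]
  ring

lemma form_add_right (u v w : DP δ) : form u (v + w) = form u v + form u w := by
  rw [form_comm, form_add_left, form_comm v, form_comm w]

lemma form_smul_right (c : ℤ) (v w : DP δ) : form v (c • w) = c * form v w := by
  rw [form_comm, form_smul_left, form_comm w]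

lemma form_neg_left (v w : DP δ) : form (-v) w = -form v w := by
  rw [show (-v) = (-1 : ℤ) • v by simp, form_smul_left]; ring

lemma form_sub_left (u v w : DP δ) : form (u - v) w = form u w - form v w := by
  rw [sub_eq_add_neg, form_add_left, form_neg_left]; ring

/-- `w` is the image of `v` under a Weyl element fixing all members of `F`. -/
def Rel (F : List (DP δ)) (v w : DP δ) : Prop :=
  ∃ g : DP δ ≃ₗ[ℤ] DP δ, IsWeyl g ∧ (∀ f ∈ F, g f = f) ∧ g v = w

lemma isWeyl_refl : IsWeyl (LinearEquiv.refl ℤ (DP δ)) := ⟨fun _ _ => rfl, rfl⟩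

lemma isWeyl_trans {g h : DP δ ≃ₗ[ℤ] DP δ} (hg : IsWeyl g) (hh : IsWeyl h) :
    IsWeyl (g.trans h) :=
  ⟨fun v w => by simp only [LinearEquiv.trans_apply]; rw [hh.1, hg.1],
    by simp only [LinearEquiv.trans_apply]; rw [hg.2, hh.2]⟩

lemma isWeyl_symm {g : DP δ ≃ₗ[ℤ] DP δ} (hg : IsWeyl g) : IsWeyl g.symm :=
  ⟨fun v w => by rw [← hg.1, LinearEquiv.apply_symm_apply, LinearEquiv.apply_symm_apply],
    by rw [LinearEquiv.symm_apply_eq]; exact hg.2.symm⟩

namespace Rel

variable {F : List (DP δ)} {u v w : DP δ}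

lemma refl (v : DP δ) : Rel F v v := ⟨_, isWeyl_refl, fun _ _ => rfl, rfl⟩

lemma symm (h : Rel F v w) : Rel F w v := by
  obtain ⟨g, hg, hF, rfl⟩ := h
  exact ⟨g.symm, isWeyl_symm hg, fun f hf => by rw [LinearEquiv.symm_apply_eq, hF f hf],
    g.symm_apply_apply v⟩

lemma trans (h : Rel F u v) (h' : Rel F v w) : Rel F u w := by
  obtain ⟨g, hg, hF, rfl⟩ := h
  obtain ⟨g', hg', hF', rfl⟩ := h'
  exact ⟨g.trans g', isWeyl_trans hg hg', fun f hf => by
    rw [LinearEquiv.trans_apply, hF f hf, hF' f hf], rfl⟩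

lemma form_self_eq (h : Rel F v w) : form w w = form v v := by
  obtain ⟨g, hg, -, rfl⟩ := h
  exact hg.1 v v

lemma form_fixed_eq (h : Rel F v w) {f : DP δ} (hf : f ∈ F) : form f w = form f v := by
  obtain ⟨g, hg, hF, rfl⟩ := h
  have := hg.1 f v
  rwa [hF f hf] at this

lemma isConic (h : Rel F v w) (hv : IsConic v) : IsConic w := by
  obtain ⟨g, hg, -, rfl⟩ := h
  refine ⟨(hg.1 v v).trans hv.1, ?_⟩
  rw [← hg.2, hg.1]; exact hv.2

lemma isExc (h : Rel F v w) (hv : IsExc v) : IsExc w := by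
  obtain ⟨g, hg, -, rfl⟩ := h
  refine ⟨(hg.1 v v).trans hv.1, ?_⟩
  rw [← hg.2, hg.1]; exact hv.2

end Rel

/-- The reflection in a root `r`. -/
noncomputable def reflW (r : DP δ) (hr : form r r = -2) : DP δ ≃ₗ[ℤ] DP δ :=
  LinearEquiv.ofInvolutive
    { toFun := fun v => v + form v r • r
      map_add' := fun u v => by rw [form_add_left, add_smul]; abel
      map_smul' := fun c v => by
        rw [form_smul_left, mul_smul, RingHom.id_apply, smul_add] }
    (fun v => by
      simp only [LinearMap.coe_mk, AddHom.coe_mk]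
      rw [form_add_left, form_smul_left, hr, add_assoc, ← add_smul,
        show form v r + (form v r + form v r * -2) = 0 by ring, zero_smul, add_zero])

lemma reflW_apply (r : DP δ) (hr : form r r = -2) (v : DP δ) :
    reflW r hr v = v + form v r • r := rfl

lemma isWeyl_reflW (r : DP δ) (hr : form r r = -2) (hK : form (canon δ) r = 0) :
    IsWeyl (reflW r hr) := by
  refine ⟨fun v w => ?_, by rw [reflW_apply, hK, zero_smul, add_zero]⟩
  simp only [reflW_apply, form_add_left, form_add_right, form_smul_left, form_smul_right, hr,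
    form_comm r w]
  ring

lemma rel_reflW (F : List (DP δ)) (r : DP δ) (hr : form r r = -2) (hK : form (canon δ) r = 0)
    (hF : ∀ f ∈ F, form f r = 0) (v : DP δ) : Rel F v (v + form v r • r) :=
  ⟨reflW r hr, isWeyl_reflW r hr hK,
    fun f hf => by rw [reflW_apply, hF f hf, zero_smul, add_zero], rfl⟩

/-- Permutation of the exceptional coordinates. -/
noncomputable def permW (σ : Equiv.Perm (Fin δ)) : DP δ ≃ₗ[ℤ] DP δ where
  toFun v := Fin.cases (v 0) fun i => v (σ i).succ
  invFun v := Fin.cases (v 0) fun i => v (σ.symm i).succ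
  map_add' u v := by ext i; induction i using Fin.cases <;> simp
  map_smul' c v := by ext i; induction i using Fin.cases <;> simp
  left_inv v := by ext i; induction i using Fin.cases <;> simp
  right_inv v := by ext i; induction i using Fin.cases <;> simp

@[simp] lemma permW_zero (σ : Equiv.Perm (Fin δ)) (v : DP δ) : permW σ v 0 = v 0 := rfl

@[simp] lemma permW_succ (σ : Equiv.Perm (Fin δ)) (v : DP δ) (i : Fin δ) :
    permW σ v i.succ = v (σ i).succ := by simp [permW]

lemma isWeyl_permW (σ : Equiv.Perm (Fin δ)) : IsWeyl (permW σ) := by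
  refine ⟨fun v w => ?_, ?_⟩
  · simp only [form, permW_zero, permW_succ]
    congr 1
    exact Equiv.sum_comp σ (fun i => v i.succ * w i.succ)
  · ext i; induction i using Fin.cases <;> simp [canon]

/-- The `i`-th exceptional coordinate (zero out of range). -/
def coord (v : DP δ) (i : ℕ) : ℤ := if h : i < δ then v (⟨i, h⟩ : Fin δ).succ else 0

/-- The coordinates with index `≥ m` are nonincreasing. -/
def sortedB (m : ℕ) (v : DP δ) : Bool :=
  (List.range (δ - 1)).all fun i => decide (i < m ∨ coord v (i + 1) ≤ coord v i)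

/-- `f` has constant exceptional coordinates from index `m` on. -/
def ConstFrom (m : ℕ) (f : DP δ) : Prop :=
  ∀ i j : Fin δ, m ≤ (i : ℕ) → m ≤ (j : ℕ) → f i.succ = f j.succ

instance (m : ℕ) : DecidablePred (ConstFrom (δ := δ) m) := fun f =>
  inferInstanceAs (Decidable (∀ i j : Fin δ, m ≤ (i : ℕ) → m ≤ (j : ℕ) → f i.succ = f j.succ))

lemma exists_sorted (F : List (DP δ)) (m : ℕ) (hF : ∀ f ∈ F, ConstFrom m f) (v : DP δ) :
    ∃ w, Rel F v w ∧ sortedB m w = true ∧ w 0 = v 0 := by
  classical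
  let e : Fin (δ - m) ≃ {i : Fin δ // m ≤ (i : ℕ)} :=
    { toFun := fun t => ⟨⟨m + t, by omega⟩, Nat.le_add_right _ _⟩
      invFun := fun i => ⟨(i.1 : ℕ) - m, by have := i.1.isLt; have := i.2; omega⟩
      left_inv := fun t => by ext; simp
      right_inv := fun i => by ext; have := i.2; simp; omega }
  let f : Fin (δ - m) → ℤ := fun t => -v ((e t : Fin δ)).succ
  let σ : Equiv.Perm (Fin δ) := Equiv.Perm.extendDomain (Tuple.sort f) e
  have hσ : ∀ i : Fin δ, m ≤ (i : ℕ) → m ≤ (σ i : ℕ) := by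
    intro i hi
    simp only [σ, Equiv.Perm.extendDomain_apply_subtype _ e hi]
    exact (e (Tuple.sort f (e.symm ⟨i, hi⟩))).2
  have hσ' : ∀ i : Fin δ, ¬ m ≤ (i : ℕ) → σ i = i := fun i hi =>
    Equiv.Perm.extendDomain_apply_not_subtype _ e hi
  refine ⟨permW σ v, ⟨_, isWeyl_permW σ, fun g hg => ?_, rfl⟩, ?_, rfl⟩
  · ext i
    induction i using Fin.cases with
    | zero => simp
    | succ i =>
      rw [permW_succ]
      by_cases hi : m ≤ (i : ℕ)
      · exact hF g hg _ _ (hσ i hi) hi
      · rw [hσ' i hi]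
  · simp only [sortedB, List.all_eq_true, List.mem_range, decide_eq_true_eq]
    intro i hi
    by_cases hm : i < m
    · exact Or.inl hm
    · refine Or.inr ?_
      have h1 : i < δ := by omega
      have h2 : i + 1 < δ := by omega
      simp only [coord, dif_pos h1, dif_pos h2, permW_succ]
      have key : ∀ (t : Fin (δ - m)), σ (e t : Fin δ) = (e (Tuple.sort f t) : Fin δ) := fun t =>
        Equiv.Perm.extendDomain_apply_image _ e t
      have hmono := Tuple.monotone_sort f (show (⟨i - m, by omega⟩ : Fin (δ - m)) ≤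
        ⟨i + 1 - m, by omega⟩ from Fin.mk_le_mk.2 (by omega))
      have e1 : (⟨i, h1⟩ : Fin δ) = (e ⟨i - m, by omega⟩ : Fin δ) := by
        ext; simp [e]; omega
      have e2 : (⟨i + 1, h2⟩ : Fin δ) = (e ⟨i + 1 - m, by omega⟩ : Fin δ) := by
        ext; simp [e]; omega
      rw [e1, e2, key, key]
      simpa [f] using hmono

/-- Descent on the degree `a`: from `S`, reach a sorted class satisfying `T`, given that every
other sorted class of `S` can be moved to smaller degree by a reflection fixing `F`. -/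
lemma descend (F : List (DP δ)) (m : ℕ) (hF : ∀ f ∈ F, ConstFrom m f) (S T : DP δ → Prop)
    (hS : ∀ v w, Rel F v w → S v → S w) (hnn : ∀ v, S v → 0 ≤ v 0)
    (hstep : ∀ v, S v → sortedB m v = true → T v ∨ ∃ w, Rel F v w ∧ w 0 < v 0) :
    ∀ v, S v → ∃ w, Rel F v w ∧ S w ∧ T w ∧ sortedB m w = true := by
  suffices H : ∀ n : ℕ, ∀ v, S v → (v 0).toNat ≤ n →
      ∃ w, Rel F v w ∧ S w ∧ T w ∧ sortedB m w = true from fun v hv => H _ v hv le_rfl
  intro n
  induction n with
  | zero =>
    intro v hv hn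
    obtain ⟨w, hw, hsort, h0⟩ := exists_sorted F m hF v
    have hSw := hS _ _ hw hv
    rcases hstep w hSw hsort with hT | ⟨u, hu, hlt⟩
    · exact ⟨w, hw, hSw, hT, hsort⟩
    · have := hnn u (hS _ _ hu hSw)
      omega
  | succ n ih =>
    intro v hv hn
    obtain ⟨w, hw, hsort, h0⟩ := exists_sorted F m hF v
    have hSw := hS _ _ hw hv
    rcases hstep w hSw hsort with hT | ⟨u, hu, hlt⟩
    · exact ⟨w, hw, hSw, hT, hsort⟩
    · have hSu := hS _ _ hu hSw
      have := hnn w hSw
      obtain ⟨x, hx, hSx⟩ := ih u hSu (by omega)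
      exact ⟨x, (hw.trans hu).trans hx, hSx⟩

/-- The root `ℓ - e_c - e_{c+1} - e_{c+2}`. -/
def root3 (δ c : ℕ) : DP δ :=
  Fin.cases 1 fun i => if c ≤ (i : ℕ) ∧ (i : ℕ) ≤ c + 2 then 1 else 0

lemma sum_window {c : ℕ} (hc : c + 3 ≤ δ) (u : Fin δ → ℤ) :
    ∑ i : Fin δ, u i * (if c ≤ (i : ℕ) ∧ (i : ℕ) ≤ c + 2 then 1 else 0) =
      u ⟨c, by omega⟩ + u ⟨c + 1, by omega⟩ + u ⟨c + 2, by omega⟩ := by
  have hfil : (Finset.univ.filter fun i : Fin δ => c ≤ (i : ℕ) ∧ (i : ℕ) ≤ c + 2) =
      {⟨c, by omega⟩, ⟨c + 1, by omega⟩, ⟨c + 2, by omega⟩} := by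
    ext i; simp [Fin.ext_iff]; omega
  simp only [mul_ite, mul_one, mul_zero]
  rw [← Finset.sum_filter, hfil, Finset.sum_insert (by simp [Fin.ext_iff]),
    Finset.sum_insert (by simp [Fin.ext_iff]), Finset.sum_singleton, add_assoc]

lemma form_root3 {c : ℕ} (hc : c + 3 ≤ δ) (v : DP δ) :
    form v (root3 δ c) = v 0 - (coord v c + coord v (c + 1) + coord v (c + 2)) := by
  simp only [form, root3, Fin.cases_zero, Fin.cases_succ, mul_one]
  rw [sum_window hc fun i => v i.succ]
  simp [coord, show c < δ by omega, show c + 1 < δ by omega, show c + 2 < δ by omega]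

lemma rel_root3_lt (F : List (DP δ)) {c : ℕ} (hc : c + 3 ≤ δ)
    (hF : ∀ f ∈ F, f 0 = coord f c + coord f (c + 1) + coord f (c + 2)) (v : DP δ)
    (hlt : v 0 < coord v c + coord v (c + 1) + coord v (c + 2)) :
    ∃ w, Rel F v w ∧ w 0 < v 0 := by
  have hcoord : ∀ i, c ≤ i → i ≤ c + 2 → coord (root3 δ c) i = 1 := fun i h1 h2 => by
    simp [coord, root3, show i < δ by omega, h1, h2]
  have hr : form (root3 δ c) (root3 δ c) = -2 := by
    rw [form_root3 hc, hcoord c le_rfl (by omega), hcoord (c + 1) (by omega) (by omega),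
      hcoord (c + 2) (by omega) le_rfl]
    rfl
  have hK : form (canon δ) (root3 δ c) = 0 := by
    rw [form_root3 hc]
    simp [coord, canon, show c < δ by omega, show c + 1 < δ by omega, show c + 2 < δ by omega]
  refine ⟨_, rel_reflW F _ hr hK (fun f hf => by rw [form_root3 hc, hF f hf, sub_self]) v, ?_⟩
  have h1 := form_root3 hc v
  simp only [Pi.add_apply, Pi.smul_apply, smul_eq_mul, h1, root3, Fin.cases_zero]
  linarith

/-! ### Enumerations -/

/-- The class with coordinates `a :: b` shifted down by `k` on the `b`. -/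
def ofList (δ : ℕ) (k : ℤ) (l : List ℕ) : DP δ :=
  Fin.cases (l.getD 0 0 : ℤ) fun i => (l.getD ((i : ℕ) + 1) 0 : ℤ) - k

/-- All conic classes of `DP δ`, `δ ≤ 8`. -/
def conicVecs (δ : ℕ) : List (DP δ) := (conicList δ).map (ofList δ 0)

lemma mem_conicVecs (hδ : δ ≤ 8) {v : DP δ} (hv : IsConic v) : v ∈ conicVecs δ := by
  refine List.mem_map.2 ⟨_, toList_mem hδ hv, ?_⟩
  obtain ⟨ha, -, hb⟩ := bounds_of_isConic hδ hv
  ext i
  induction i using Fin.cases with
  | zero => simp [ofList, toList]; omega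
  | succ i =>
    have := hb i
    simp [ofList, toList, List.getD_eq_getElem?_getD]
    omega

/-- All exceptional classes of `DP 8`. -/
def excVecs : List (DP 8) :=
  (List.range 7).flatMap fun a =>
    ((vecs 8 (3 * a + 7) (a * a + 6 * a + 7)).map (a :: ·)).map (ofList 8 1)

lemma isExc_iff (v : DP δ) :
    IsExc v ↔ (∑ i : Fin δ, v i.succ = 3 * v 0 - 1) ∧
      (∑ i : Fin δ, v i.succ ^ 2 = v 0 ^ 2 + 1) := by
  unfold IsExc form
  simp only [canon, Fin.cases_zero, Fin.cases_succ, neg_mul, one_mul, Finset.sum_neg_distrib,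
    ← sq]
  constructor <;> rintro ⟨h1, h2⟩ <;> constructor <;> linarith

lemma bounds_of_isExc {v : DP 8} (hv : IsExc v) :
    0 ≤ v 0 ∧ v 0 ≤ 6 ∧ ∀ i : Fin 8, -1 ≤ v i.succ := by
  obtain ⟨h1, h2⟩ := (isExc_iff v).1 hv
  have hcs := sq_sum_le_card_mul_sum_sq (s := (Finset.univ : Finset (Fin 8)))
    (f := fun i => v i.succ)
  simp only [Finset.card_univ, Fintype.card_fin] at hcs
  rw [h1, h2] at hcs
  push_cast at hcs
  have hA : 0 ≤ v 0 ^ 2 + 3 * v 0 := by
    have : 0 ≤ ∑ i : Fin 8, (v i.succ ^ 2 + v i.succ) := Finset.sum_nonneg fun i _ => by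
      nlinarith [sq_abs (v i.succ), abs_nonneg (v i.succ), neg_le_abs (v i.succ),
        Int.le_self_sq (-v i.succ)]
    rw [Finset.sum_add_distrib, h1, h2] at this
    linarith
  have hB : 0 ≤ v 0 ^ 2 - 15 * v 0 + 54 := by
    have : 0 ≤ ∑ i : Fin 8, (v i.succ ^ 2 - 5 * v i.succ + 6) := Finset.sum_nonneg fun i _ => by
      rcases le_or_gt (v i.succ) 2 with h | h <;> nlinarith
    simp only [Finset.sum_add_distrib, Finset.sum_sub_distrib, ← Finset.mul_sum, h1, h2] at this
    simp at this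
    linarith
  have hlo : -1 ≤ v 0 := by nlinarith
  have hhi : v 0 ≤ 7 := by nlinarith
  have ha : 0 ≤ v 0 := by
    by_contra h
    rw [show v 0 = -1 by omega] at hA
    norm_num at hA
  refine ⟨ha, ?_, fun i => ?_⟩
  · by_contra h
    rw [show v 0 = 7 by omega] at hB
    norm_num at hB
  by_contra hneg
  have hcs' := sq_sum_le_card_mul_sum_sq (s := (Finset.univ : Finset (Fin 8)).erase i)
    (f := fun i => v i.succ)
  rw [Finset.sum_erase_eq_sub (Finset.mem_univ i), Finset.sum_erase_eq_sub (Finset.mem_univ i),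
    h1, h2, Finset.card_erase_of_mem (Finset.mem_univ i), Finset.card_univ, Fintype.card_fin] at hcs'
  norm_num at hcs'
  obtain ⟨c, hc, hceq⟩ : ∃ c : ℤ, 2 ≤ c ∧ v i.succ = -c := ⟨-v i.succ, by omega, by ring⟩
  rw [hceq] at hcs'
  nlinarith [mul_nonneg ha (by omega : (0 : ℤ) ≤ c - 2), mul_le_mul hc hc (by norm_num) (by omega)]

lemma mem_excVecs {v : DP 8} (hv : IsExc v) : v ∈ excVecs := by
  obtain ⟨ha, ha', hb⟩ := bounds_of_isExc hv
  obtain ⟨h1, h2⟩ := (isExc_iff v).1 hv
  obtain ⟨a, haeq⟩ := Int.eq_ofNat_of_zero_le ha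
  have hw : ∀ i : Fin 8, ∃ w : ℕ, v i.succ + 1 = w := fun i =>
    Int.eq_ofNat_of_zero_le (by have := hb i; omega)
  choose w hw using hw
  refine List.mem_flatMap.2 ⟨a, List.mem_range.2 (by omega), List.mem_map.2
    ⟨a :: List.ofFn w, List.mem_map.2 ⟨List.ofFn w, mem_vecs.2 ⟨List.length_ofFn, ?_, ?_⟩, rfl⟩, ?_⟩⟩
  · rw [List.sum_ofFn]
    zify
    simp only [← hw, Finset.sum_add_distrib, h1, haeq]
    simp
    ring
  · rw [List.map_ofFn, List.sum_ofFn]
    zify
    simp only [Function.comp_apply, Nat.cast_mul, ← hw,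
      show ∀ x : ℤ, (x + 1) * (x + 1) = x ^ 2 + (2 * x + 1) by intro x; ring,
      Finset.sum_add_distrib, ← Finset.mul_sum, h1, h2, haeq]
    simp
    ring
  · ext i
    induction i using Fin.cases with
    | zero => simp [ofList, haeq]
    | succ i =>
      simp only [ofList, Fin.cases_succ, List.getD_eq_getElem?_getD, List.getElem?_cons_succ,
        List.getElem?_ofFn, i.isLt, dif_pos, Option.getD_some, Fin.eta]
      rw [← hw i]
      ring

end Groth.Surfaces.DPWeyl
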